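import Cfsg.Agent.Lib.TensorMax.Unitary.Iso

/-!
Hermitian spaces of dimension at least three: prescribed products and linking by transvections.
-/

set_option autoImplicit false

namespace CfsgLib.TensorMax.Unitary.Conj

open scoped Matrix

variable {F : Type*} [Field F] [Fintype F] {κ : Type} [Fintype κ] {τ : F ≃+* F} (hτ : Conj τ)

include hτ

/-- A vector of given norm with two given products, the second one from a choice of two values. -/
theorem exists_pair_prescribed (h3 : 3 ≤ Fintype.card κ) {a b : κ → F} (hli : LinearIndependent F ![a, b])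
    {p₀ p₁ p₁' ν : F} (hν : τ ν = ν) (hp : p₁ ≠ p₁') (h0 : p₀ ≠ 0 ∨ hd τ a a ≠ 0) :
    ∃ z, hd τ z a = p₀ ∧ (hd τ z b = p₁ ∨ hd τ z b = p₁') ∧ hd τ z z = ν := by
  obtain ⟨y, hy, hy0⟩ := (perp τ ![a, b]).exists_mem_ne_zero_of_ne_bot fun e => by
    have h := le_finrank_perp (τ := τ) ![a, b]
    rw [e, finrank_bot] at h
    omega
  have hya : hd τ y a = 0 := mem_perp.1 hy 0
  have hyb : hd τ y b = 0 := mem_perp.1 hy 1
  have fix : ∀ z₀ : κ → F, (hd τ y y ≠ 0 ∨ hd τ z₀ y ≠ 0) →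
      ∃ z, hd τ z a = hd τ z₀ a ∧ hd τ z b = hd τ z₀ b ∧ hd τ z z = ν := by
    intro z₀ h
    suffices ∃ t : F, hd τ (z₀ + t • y) (z₀ + t • y) = ν by
      obtain ⟨t, ht⟩ := this
      exact ⟨z₀ + t • y, by rw [hd_add_left, hd_smul_left, hya, mul_zero, add_zero],
        by rw [hd_add_left, hd_smul_left, hyb, mul_zero, add_zero], ht⟩
    by_cases hN : hd τ y y = 0
    · have hzy := h.resolve_left (not_not.2 hN)
      obtain ⟨l, hl⟩ := hτ.exists_trace (c := ν - hd τ z₀ z₀) (by rw [map_sub, hν, hτ.self_fixed])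
      refine ⟨τ (l / hd τ z₀ y), ?_⟩
      simp only [hd_add_left, hd_add_right, hd_smul_left, hd_smul_right, hτ.invol, hN, mul_zero, add_zero,
        div_mul_cancel₀ _ hzy, show τ (l / hd τ z₀ y) * hd τ y z₀ = τ l by
          rw [← hτ.hd_conj z₀ y, ← map_mul, div_mul_cancel₀ _ hzy]]
      linear_combination hl
    · set N := hd τ y y with hNd
      clear h
      set h := hd τ z₀ y with hh
      have hNf : τ N = N := hτ.self_fixed y
      obtain ⟨s, hs⟩ := hτ.exists_norm (c := (ν - hd τ z₀ z₀ + h * τ h / N) / N) (by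
        simp only [map_div₀, map_add, map_sub, map_mul, hν, hτ.self_fixed, hNf, hτ.invol, mul_comm (τ h)])
      refine ⟨s - h / N, ?_⟩
      simp only [hd_add_left, hd_add_right, hd_smul_left, hd_smul_right, ← hτ.hd_conj z₀ y, ← hNd, ← hh, map_sub,
        map_div₀, hNf]
      have e : s * τ s * N = ν - hd τ z₀ z₀ + h * τ h / N := by rw [hs, div_mul_cancel₀ _ hN]
      field_simp
      field_simp at e
      linear_combination e
  obtain ⟨z₁, hz₁⟩ := hτ.exists_dual hli ![p₀, p₁]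
  obtain ⟨z₂, hz₂⟩ := hτ.exists_dual hli ![p₀, p₁']
  have e1a : hd τ z₁ a = p₀ := hz₁ 0
  have e1b : hd τ z₁ b = p₁ := hz₁ 1
  have e2a : hd τ z₂ a = p₀ := hz₂ 0
  have e2b : hd τ z₂ b = p₁' := hz₂ 1
  by_cases hy1' : hd τ y y ≠ 0 ∨ hd τ z₁ y ≠ 0
  · obtain ⟨z, h1, h2, h3⟩ := fix z₁ hy1'
    exact ⟨z, h1.trans e1a, Or.inl (h2.trans e1b), h3⟩
  by_cases hy2 : hd τ z₂ y ≠ 0
  · obtain ⟨z, h1, h2, h3⟩ := fix z₂ (Or.inr hy2)
    exact ⟨z, h1.trans e2a, Or.inr (h2.trans e2b), h3⟩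
  push Not at hy1' hy2
  obtain ⟨hyy, hy1⟩ := hy1'
  -- the singular perpendicular vector lies in the span
  by_cases hs : y ∈ Submodule.span F (Set.range ![a, b])
  · obtain ⟨c, hc⟩ := Submodule.mem_span_range_iff_exists_fun F |>.1 hs
    rw [Fin.sum_univ_two] at hc
    simp only [Matrix.cons_val_zero, Matrix.cons_val_one] at hc
    rw [← hc, hd_add_right, hd_smul_right, hd_smul_right, e1a, e1b] at hy1
    rw [← hc, hd_add_right, hd_smul_right, hd_smul_right, e2a, e2b] at hy2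
    have h1 : τ (c 1) * (p₁ - p₁') = 0 := by linear_combination hy1 - hy2
    have hc1 : c 1 = 0 := by
      have := (mul_eq_zero.1 h1).resolve_right (sub_ne_zero.2 hp)
      simpa using this
    rw [hc1, zero_smul, add_zero] at hc
    have hc0 : c 0 ≠ 0 := fun e => hy0 (by rw [← hc, e, zero_smul])
    rw [hc1, map_zero, zero_mul, add_zero] at hy1
    have hp0 : p₀ = 0 := (mul_eq_zero.1 hy1).resolve_left (by simpa using hc0)
    exfalso
    refine (h0.resolve_left (not_not.2 hp0)) ?_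
    rw [← hc, hd_smul_left] at hya
    exact (mul_eq_zero.1 hya).resolve_left hc0
  · have hli' : LinearIndependent F ![a, b, y] := by
      have e : ![a, b, y] = Fin.snoc ![a, b] y := by
        funext i; fin_cases i <;> rfl
      rw [e]
      exact linearIndependent_fin_snoc.2 ⟨hli, hs⟩
    obtain ⟨z₃, hz₃⟩ := hτ.exists_dual hli' ![0, 0, 1]
    have h3a : hd τ z₃ a = 0 := hz₃ 0
    have h3b : hd τ z₃ b = 0 := hz₃ 1
    have h3y : hd τ z₃ y = 1 := hz₃ 2
    -- otherwise a suitable translate pairs with it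
    have hzy : hd τ (z₁ + z₃) y = 1 := by rw [hd_add_left, hy1, h3y, zero_add]
    obtain ⟨z, h1, h2, h3⟩ := fix (z₁ + z₃) (Or.inr (by rw [hzy]; exact one_ne_zero))
    exact ⟨z, h1.trans (by rw [hd_add_left, e1a, h3a, add_zero]),
      Or.inl (h2.trans (by rw [hd_add_left, e1b, h3b, add_zero])), h3⟩

/-- Vectors of equal norm are linked by transvections, also in dimension three. -/
theorem move_induction_three (h3 : 3 ≤ Fintype.card κ) {s : F} (hs : τ s = s) (hs0 : s ≠ 0) (hs1 : s ≠ 1)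
    {P : (κ → F) → Prop} (hP : ∀ x v (k : F), hd τ v v = 0 → τ k = -k → P x → P (x + (k * hd τ x v) • v))
    {a b : κ → F} (ha : a ≠ 0) (hb : b ≠ 0) (hab : hd τ a a = hd τ b b) (h : P a) : P b := by
  classical
  obtain ⟨ε, hε0, hε⟩ := hτ.exists_skew
  have hsε : τ (s * ε) = -(s * ε) := by rw [map_mul, hs, hε, mul_neg]
  have hstep : ∀ (x y : κ → F) (δ : F), δ ≠ 0 → τ δ = -δ → hd τ y y = hd τ x x → hd τ y x = hd τ x x + δ →
      P x → P y := by
    intro x y δ hδ0 hδ hyy hyx hx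
    have hxy : hd τ x y = hd τ x x - δ := by rw [← hτ.hd_conj y x, hyx, map_add, hτ.self_fixed, hδ, sub_eq_add_neg]
    have h1 := hP x (y - x) (-δ⁻¹) (by simp only [hd_sub_left, hd_sub_right, hyx, hxy, hyy]; ring)
      (by rw [map_neg, map_inv₀, hδ, inv_neg, neg_neg]) hx
    rwa [hd_sub_right, hxy, show -δ⁻¹ * (hd τ x x - δ - hd τ x x) = 1 by field_simp; ring, one_smul,
      add_sub_cancel] at h1
  have hpair : ∀ a b : κ → F, LinearIndependent F ![a, b] → hd τ a a = hd τ b b → P a → P b := by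
    intro a b hli hab h
    obtain ⟨z, hza, hzb, hzz⟩ := hτ.exists_pair_prescribed h3 hli (p₀ := hd τ a a + ε) (p₁ := hd τ b b + ε)
      (p₁' := hd τ b b + s * ε) (hτ.self_fixed a)
      (fun e => hs1 (mul_right_cancel₀ hε0 ((add_left_cancel e).symm.trans (one_mul ε).symm)))
      (by
        by_cases hN : hd τ a a = 0
        · exact Or.inl (by rwa [hN, zero_add])
        · exact Or.inr hN)
    have hz : P z := hstep a z ε hε0 hε hzz hza h
    obtain ⟨δ, hδ0, hδ, hbz⟩ : ∃ δ : F, δ ≠ 0 ∧ τ δ = -δ ∧ hd τ b z = hd τ z z + δ := by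
      rcases hzb with e | e
      · refine ⟨-ε, neg_ne_zero.2 hε0, by rw [map_neg, hε], ?_⟩
        rw [← hτ.hd_conj, e, map_add, hτ.self_fixed, hε, hzz, hab]
      · refine ⟨-(s * ε), neg_ne_zero.2 (mul_ne_zero hs0 hε0), by rw [map_neg, hsε], ?_⟩
        rw [← hτ.hd_conj, e, map_add, hτ.self_fixed, hsε, hzz, hab]
    exact hstep z b δ hδ0 hδ (by rw [hzz, hab]) hbz hz
  have hli2 : ∀ {x y : κ → F}, x ≠ 0 → y ∉ F ∙ x → LinearIndependent F ![x, y] := fun {x y} hx hy =>
    (LinearIndependent.pair_iff' hx).2 fun r hr => hy (Submodule.mem_span_singleton.2 ⟨r, hr⟩)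
  by_cases hba : b ∈ F ∙ a
  · obtain ⟨c, hcc, hca⟩ : ∃ c, hd τ c c = hd τ a a ∧ c ∉ F ∙ a := by
      obtain ⟨z, hz, hzz⟩ := hτ.exists_prescribed (v := ![a]) (LinearIndependent.of_subsingleton (ι := Fin 1) 0 ha)
        (by omega) (fun _ => if hd τ a a = 0 then 1 else 0) (hτ.self_fixed a)
      refine ⟨z, hzz, fun hm => ?_⟩
      obtain ⟨m, rfl⟩ := Submodule.mem_span_singleton.1 hm
      have h1 : m * hd τ a a = if hd τ a a = 0 then 1 else 0 := (hd_smul_left m a a).symm.trans (hz 0)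
      split_ifs at h1 with h0
      · rw [h0, mul_zero] at h1; exact zero_ne_one h1
      · rw [hd_smul_left, hd_smul_right, (mul_eq_zero.1 h1).resolve_right h0, zero_mul] at hzz
        exact h0 hzz.symm
    have hc0 : c ≠ 0 := fun e => hca (e ▸ zero_mem _)
    have hbc : b ∉ F ∙ c := fun hm => by
      obtain ⟨r, rfl⟩ := Submodule.mem_span_singleton.1 hm
      refine hca ?_
      have hr : r ≠ 0 := fun e => hb (by rw [e, zero_smul])
      have := (F ∙ a).smul_mem r⁻¹ hba
      rwa [inv_smul_smul₀ hr] at this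
    exact hpair c b (hli2 hc0 hbc) (hcc.trans hab) (hpair a c (hli2 ha hca) hcc.symm h)
  · exact hpair a b (hli2 ha hba) hab h

end CfsgLib.TensorMax.Unitary.Conj
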