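import Cfsg.Agent.Lib.TensorMax.Unitary.Radical
import Cfsg.Agent.Lib.TensorMax.Unitary.TwoThree.Lines

/-!
A plane tensor a three-space: a non-scalar radical element gives all transvections.
-/

set_option autoImplicit false
set_option linter.unusedSectionVars false

namespace CfsgLib.TensorMax.Unitary

open scoped Matrix
open CfsgLib.FieldMax (Mem map_unit_inj inv_apply_apply apply_inv_apply)

variable {F : Type*} [Field F] [Fintype F] {α β : Type} [Fintype α] [Fintype β] [DecidableEq α] [DecidableEq β]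

local notation "VV" => Matrix α β F

variable {τ : F ≃+* F}

theorem hd_hadj (hτ : Conj τ) (A : Matrix α α F) (u v : α → F) : hd τ (hadj τ A *ᵥ u) v = hd τ u (A *ᵥ v) := by
  simp only [hd_apply, Matrix.mulVec, dotProduct, hadj_apply, map_sum, map_mul, Finset.sum_mul, Finset.mul_sum]
  rw [Finset.sum_comm]
  exact Finset.sum_congr rfl fun i _ => Finset.sum_congr rfl fun j _ => by ring

/-- A hyperbolic pair is a basis of a plane. -/
theorem Conj.plane_decomp (hτ : Conj τ) (hα : Fintype.card α = 2) {e f : α → F} (he : hd τ e e = 0)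
    (hf : hd τ f f = 0) (hef : hd τ e f = 1) (u : α → F) : u = hd τ u f • e + hd τ u e • f := by
  have hfe : hd τ f e = 1 := by rw [← hτ.hd_conj, hef, map_one]
  have hli : LinearIndependent F ![e, f] := LinearIndependent.pair_iff.2 fun a b hab => by
    have h1 := congrArg (fun x => hd τ x f) hab
    have h2 := congrArg (fun x => hd τ x e) hab
    simp only [hd_add_left, hd_smul_left, he, hf, hef, hfe, hd_zero_left] at h1 h2
    exact ⟨by simpa using h1, by simpa using h2⟩
  set x := u - (hd τ u f • e + hd τ u e • f) with hx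
  have hmem : x ∈ perp τ ![e, f] := mem_perp.2 fun i => by
    fin_cases i <;> simp [hx, hd_sub_left, hd_add_left, hd_smul_left, he, hf, hef, hfe]
  have h0 := hτ.finrank_perp hli
  have hbot : perp τ ![e, f] = ⊥ := Submodule.finrank_eq_zero.1 (by omega)
  rw [hbot, Submodule.mem_bot, hx, sub_eq_zero] at hmem
  exact hmem

namespace UBase

variable {M : Subgroup (Module.End F (Matrix α β F))ˣ} (hM : UBase τ M) (hα : Fintype.card α = 2)
  (hβ : 3 ≤ Fintype.card β) {s : F} (hs : τ s = s) (hs0 : s ≠ 0) (hs1 : s ≠ 1)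

theorem skew_hd (hM : UBase τ M) {w : β → F} (hw0 : w ≠ 0) (hw : hd τ w w = 0) {E : Matrix α α F} (h : InR τ M w E)
    (u v : α → F) : hd τ (E *ᵥ u) v = -hd τ u (E *ᵥ v) := by
  rw [← hd_hadj hM.conj, show hadj τ E = -E from Matrix.ext fun i j => by
    rw [hadj_apply, hM.inR_skew hw0 hw h, Matrix.neg_apply], Matrix.neg_mulVec, hd_neg_left, neg_neg]

include hM hα hβ hs hs0 hs1

omit hα in
/-- Radical elements exist on every singular line. -/
theorem inR_line {w : β → F} (hw0 : w ≠ 0) (hw : hd τ w w = 0) {E : Matrix α α F} (h : InR τ M w E) {w' : β → F}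
    (hw0' : w' ≠ 0) (hw' : hd τ w' w' = 0) : InR τ M w' E := by
  have hτ := hM.conj
  refine hτ.move_induction_three hβ hs hs0 hs1 (P := fun x => InR τ M x E) (fun x v k hv hk hx => ?_) hw0 hw0'
    (hw.trans hw'.symm) h
  obtain ⟨g, hg, eg⟩ := hM.mem_rt hv hk
  unfold InR
  convert hx.conj hg using 1
  have hgi : ∀ c : α → F, (g : Module.End F VV) (inj x c) = inj (x + (k * hd τ x v) • v) c := fun c => by
    simp [eg, ct_inj, inj_add_left, inj_smul_left, smul_smul, map_smul]
  refine LinearMap.ext fun T => ?_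
  rw [Module.End.mul_apply, Module.End.mul_apply, rad_apply, rad_apply, hgi]
  congr 2
  refine hτ.eq_of_forall fun c => ?_
  rw [← th_inj_right hτ, ← th_inj_right hτ, ← hgi, hM.adj' hg]

omit hα in
/-- Radical elements may be scaled by fixed scalars. -/
theorem inR_scale {w : β → F} (hw0 : w ≠ 0) (hw : hd τ w w = 0) {E : Matrix α α F} (h : InR τ M w E) {c : F}
    (hc : τ c = c) : InR τ M w (c • E) := by
  rcases eq_or_ne c 0 with rfl | hc0
  · rw [zero_smul]; exact hM.inR_zero w
  obtain ⟨r, hr⟩ := hM.conj.exists_norm hc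
  have hr0 : r ≠ 0 := fun e => hc0 (by rw [← hr, e, zero_mul])
  have h2 := hM.inR_line hβ hs hs0 hs1 hw0 hw h (w' := r • w) (smul_ne_zero hr0 hw0)
    (by rw [hd_smul_left, hd_smul_right, hw, mul_zero, mul_zero])
  unfold InR at h2 ⊢
  convert h2 using 1
  refine LinearMap.ext fun T => ?_
  rw [rad_apply, rad_apply, ct_smul, inj_smul_left, Matrix.mulVec_smul, Matrix.smul_mulVec, map_smul, map_smul,
    smul_smul, hr]

omit hβ hs hs0 hs1 in
/-- An isotropic eigenvector of a non-scalar radical matrix gives a rank-one one. -/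
theorem inR_of_eigen {w : β → F} (hw0 : w ≠ 0) (hw : hd τ w w = 0) {E : Matrix α α F} (h : InR τ M w E)
    (hE : ∀ c : F, E ≠ c • 1) {e : α → F} (he0 : e ≠ 0) (he : hd τ e e = 0) {μ : F} (hμ : E *ᵥ e = μ • e) :
    ∃ k : F, k ≠ 0 ∧ τ k = -k ∧ InR τ M w (k • nm τ e) := by
  have hτ := hM.conj
  obtain ⟨f, hf, hef⟩ := hτ.exists_partner he0 he
  have hfe : hd τ f e = 1 := by rw [← hτ.hd_conj, hef, map_one]
  have hsk := hM.skew_hd hw0 hw h
  have hEe : ∀ u, hd τ (E *ᵥ u) e = -τ μ * hd τ u e := fun u => by rw [hsk, hμ, hd_smul_right, neg_mul]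
  by_cases hμs : τ μ = -μ
  · set ν := hd τ (E *ᵥ f) f with hνd
    have hν : τ ν = -ν := by
      rw [hνd, hτ.hd_conj]
      linear_combination hsk f f
    have hEf : E *ᵥ f = ν • e + μ • f := by
      rw [hτ.plane_decomp hα he hf hef (E *ᵥ f), hEe, hfe, hμs, neg_neg, mul_one]
    have hdiff : E - μ • (1 : Matrix α α F) = ν • nm τ e := by
      refine Matrix.ext_of_mulVec_single fun i => ?_
      generalize (Pi.single i 1 : α → F) = u
      rw [Matrix.sub_mulVec, Matrix.smul_mulVec, Matrix.one_mulVec, Matrix.smul_mulVec, nm_mulVec]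
      conv_lhs => rw [hτ.plane_decomp hα he hf hef u, Matrix.mulVec_add, Matrix.mulVec_smul, Matrix.mulVec_smul, hμ, hEf]
      module
    refine ⟨ν, fun e0 => hE μ ?_, hν, ?_⟩
    · rw [e0, zero_smul, sub_eq_zero] at hdiff; exact hdiff
    · rw [← hdiff, sub_eq_add_neg]
      exact hM.inR_add hw h (hM.inR_neg hw (hM.inR_scalar hw hμs))
  · obtain ⟨k, hk0, hk⟩ := hτ.exists_skew
    have hA : IsIso τ (qr τ e k) := isIso_qr hτ (by rw [he, hk]; ring)
    have h1 := hM.inR_conj h hA (by rw [det_qr, he, mul_zero, add_zero])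
    have hdiff : qr τ e k * E * hadj τ (qr τ e k) + -E = (-(k * (μ + τ μ))) • nm τ e := by
      refine Matrix.ext_of_mulVec_single fun i => ?_
      generalize (Pi.single i 1 : α → F) = u
      simp only [Matrix.add_mulVec, Matrix.neg_mulVec, ← Matrix.mulVec_mulVec, hadj_qr hτ, qr_mulVec,
        Matrix.mulVec_add, Matrix.mulVec_smul, hμ, hd_add_left, hd_smul_left, hEe, he, Matrix.smul_mulVec, nm_mulVec,
        hk]
      module
    refine ⟨_, neg_ne_zero.2 (mul_ne_zero hk0 fun e0 => hμs (eq_neg_of_add_eq_zero_right e0)), ?_,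
      hdiff ▸ hM.inR_add hw h1 (hM.inR_neg hw h)⟩
    rw [map_neg, map_mul, map_add, hk, hτ.invol]; ring

/-- Pure points with two singular parts are full. -/
theorem full_iso (hN : NonRootU τ M) {w : β → F} (hw0 : w ≠ 0) (hw : hd τ w w = 0) {e : α → F} (he : hd τ e e = 0) :
    Full τ M (inj w e) := by
  have hτ := hM.conj
  rcases eq_or_ne e 0 with rfl | he0
  · rw [map_zero]; exact hM.full_zero
  obtain ⟨w₀, El, hw₀0, hw₀, hm, hns⟩ := hN
  set E : Matrix α α F := LinearMap.toMatrix' El with hEd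
  have hm' : InR τ M w₀ E := by
    unfold InR
    convert hm using 1
    exact LinearMap.ext fun T => by rw [rad_apply, hEd, LinearMap.toMatrix'_mulVec]; rfl
  have hE : ∀ c : F, E ≠ c • 1 := fun c hc => hns ⟨c, fun u => by
    rw [← LinearMap.toMatrix'_mulVec El u, ← hEd, hc, Matrix.smul_mulVec, Matrix.one_mulVec]⟩
  have hwE := hM.inR_line hβ hs hs0 hs1 hw₀0 hw₀ hm' hw0 hw
  obtain ⟨e₀, he₀0, he₀, -⟩ := hτ.exists_isotropic_perp (fun i : Fin 0 => (0 : α → F)) (by omega)
  obtain ⟨f, hf, hef⟩ := hτ.exists_partner he₀0 he₀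
  obtain ⟨k, hk0, hk, hk'⟩ : ∃ k : F, k ≠ 0 ∧ τ k = -k ∧ InR τ M w (k • nm τ e₀) := by
    by_cases hlam : hd τ (E *ᵥ e₀) e₀ = 0
    · refine hM.inR_of_eigen hα hw0 hw hwE hE he₀0 he₀ (μ := hd τ (E *ᵥ e₀) f) ?_
      conv_lhs => rw [hτ.plane_decomp hα he₀ hf hef (E *ᵥ e₀), hlam, zero_smul, add_zero]
    set lam := hd τ (E *ᵥ e₀) e₀ with hlamd
    have hsk := hM.skew_hd hw0 hw hwE
    have hfe : hd τ f e₀ = 1 := by rw [← hτ.hd_conj, hef, map_one]
    set p := hd τ (E *ᵥ f) e₀ - hd τ (E *ᵥ e₀) f with hp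
    obtain ⟨k, hk0, hk, hkp⟩ : ∃ k : F, k ≠ 0 ∧ τ k = -k ∧ p - k * lam ≠ 0 := by
      obtain ⟨ε, hε0, hε⟩ := hτ.exists_skew
      by_cases h1 : p - ε * lam = 0
      · refine ⟨s * ε, mul_ne_zero hs0 hε0, by rw [map_mul, hs, hε, mul_neg], fun h2 => ?_⟩
        have h3 : (s - 1) * (ε * lam) = 0 := by linear_combination h1 - h2
        rcases mul_eq_zero.1 h3 with h4 | h4
        · exact hs1 (sub_eq_zero.1 h4)
        · exact mul_ne_zero hε0 hlam h4
      · exact ⟨ε, hε0, hε, h1⟩
    have hA : IsIso τ (qr τ e₀ k) := isIso_qr hτ (by rw [he₀, hk]; ring)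
    have h1 := hM.inR_add hw (hM.inR_conj hwE hA (by rw [det_qr, he₀, mul_zero, add_zero])) (hM.inR_neg hw hwE)
    set E1 := qr τ e₀ k * E * hadj τ (qr τ e₀ k) + -E with hE1
    have hE1v : ∀ u, E1 *ᵥ u =
        (-(k * hd τ u e₀)) • (E *ᵥ e₀) + (k * hd τ (E *ᵥ u) e₀ - k * k * lam * hd τ u e₀) • e₀ := fun u => by
      simp only [hE1, Matrix.add_mulVec, Matrix.neg_mulVec, ← Matrix.mulVec_mulVec, hadj_qr hτ, qr_mulVec,
        Matrix.mulVec_add, Matrix.mulVec_smul, hd_add_left, hd_smul_left, hk, ← hlamd]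
      module
    refine hM.inR_of_eigen hα hw0 hw h1 (fun c hc => ?_) he₀0 he₀ (μ := k * lam) ?_
    · have h2 := congrArg (fun X : Matrix α α F => hd τ (X *ᵥ f) f) hc
      simp only [hE1v, Matrix.smul_mulVec, Matrix.one_mulVec, hd_smul_left, hf, mul_zero, hd_add_left, hfe, hef] at h2
      have h3 : k * (p - k * lam) = 0 := by rw [hp]; linear_combination h2
      exact mul_ne_zero hk0 hkp h3
    · rw [hE1v, he₀, mul_zero, neg_zero, zero_smul, zero_add, mul_zero, sub_zero, ← hlamd]
  -- moving the first part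
  obtain ⟨A, hA, hA1, t, ht, hAe⟩ : ∃ A : Matrix α α F, IsIso τ A ∧ A.det = 1 ∧ ∃ t : F, t ≠ 0 ∧ A *ᵥ e₀ = t • e := by
    by_cases hpe : hd τ e₀ e = 0
    · refine ⟨1, fun u v => by simp only [Matrix.one_mulVec], Matrix.det_one, hd τ e₀ f / hd τ e f, ?_, ?_⟩
      · rw [hef]
        refine div_ne_zero one_ne_zero fun e0 => he0 ?_
        rw [hτ.plane_decomp hα he₀ hf hef e, e0, hτ.hd_symm_zero hpe, zero_smul, zero_smul, add_zero]
      · have he' : e = hd τ e f • e₀ := by
          conv_lhs => rw [hτ.plane_decomp hα he₀ hf hef e, hτ.hd_symm_zero hpe, zero_smul, add_zero]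
        have hne : hd τ e f ≠ 0 := fun e0 => he0 (by rw [he', e0, zero_smul])
        rw [Matrix.one_mulVec, hef, one_div]
        generalize hd τ e f = g at he' hne ⊢
        rw [he', smul_smul, inv_mul_cancel₀ hne, one_smul]
    obtain ⟨ε, hε0, hε⟩ := hτ.exists_skew
    have hpe' : hd τ e e₀ ≠ 0 := fun h0 => hpe (hτ.hd_symm_zero h0)
    set t := ε / hd τ e e₀ with ht
    have ht0 : t ≠ 0 := div_ne_zero hε0 hpe'
    have htε : t * hd τ e e₀ = ε := div_mul_cancel₀ _ hpe'
    have htε' : τ t * hd τ e₀ e = -ε := by rw [← hε, ← htε, map_mul, hτ.hd_conj]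
    set d := t • e - e₀ with hd'
    have hdd : hd τ d d = 0 := by
      simp only [hd', hd_sub_left, hd_sub_right, hd_smul_left, hd_smul_right, he, he₀]
      linear_combination -htε' - htε
    have hed : hd τ e₀ d = -ε := by rw [hd', hd_sub_right, hd_smul_right, he₀, sub_zero, htε']
    refine ⟨qr τ d (-ε⁻¹), isIso_qr hτ (by rw [hdd, map_neg, map_inv₀, hε, inv_neg]; ring),
      by rw [det_qr, hdd, mul_zero, add_zero], t, ht0, ?_⟩
    rw [qr_mulVec, hed, neg_mul_neg, inv_mul_cancel₀ hε0, one_smul, hd', add_sub_cancel]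
  intro l hl
  have h2 := hM.inR_conj hk' hA hA1
  have h3 : A * (k • nm τ e₀) * hadj τ A = (k * (t * τ t)) • nm τ e := by
    refine Matrix.ext_of_mulVec_single fun i => ?_
    simp only [← Matrix.mulVec_mulVec, Matrix.smul_mulVec, nm_mulVec, Matrix.mulVec_smul, hd_hadj hτ, hAe,
      hd_smul_right, smul_smul]
    congr 1
    ring
  rw [h3] at h2
  have hkt : k * (t * τ t) ≠ 0 := mul_ne_zero hk0 (mul_ne_zero ht (by simpa using ht))
  have h4 := hM.inR_scale hβ hs hs0 hs1 hw0 hw h2 (c := l / (k * (t * τ t)))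
    (by rw [map_div₀, map_mul, map_mul, hl, hk, hτ.invol, mul_comm (τ t), neg_mul, neg_div_neg_eq])
  rw [smul_smul, div_mul_cancel₀ _ hkt] at h4
  unfold InR at h4
  convert h4 using 1
  refine LinearMap.ext fun T => ?_
  rw [trv_apply, rad_apply, Matrix.smul_mulVec, nm_mulVec, smul_smul, map_smul, th_inj_right hτ]

/-- Pure points with a non-singular first part are full. -/
theorem full_pure_three (hN : NonRootU τ M) {u : α → F} (hu : hd τ u u ≠ 0) {w : β → F} (hw0 : w ≠ 0)
    (hw : hd τ w w = 0) : Full τ M (inj w u) := by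
  have hτ := hM.conj
  suffices key : ∀ e f : α → F, hd τ e e = 0 → hd τ f f = 0 → hd τ e f = 1 → ∀ μ : F, μ + τ μ = 1 →
      Full τ M (inj w (μ • e + f)) by
    obtain ⟨e, he0, he, -⟩ := hτ.exists_isotropic_perp (fun i : Fin 0 => (0 : α → F)) (by omega)
    obtain ⟨f, hf, hef⟩ := hτ.exists_partner he0 he
    have hfe : hd τ f e = 1 := by rw [← hτ.hd_conj, hef, map_one]
    obtain ⟨μ, hμ⟩ := hτ.exists_trace (c := (1 : F)) (map_one τ)
    have h := key e f he hf hef μ hμ
    have hu₀ : hd τ (μ • e + f) (μ • e + f) ≠ 0 := by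
      simp only [hd_add_left, hd_add_right, hd_smul_left, hd_smul_right, he, hf, hef, hfe, mul_zero, mul_one,
        zero_add, add_zero]
      rw [add_comm, hμ]
      exact one_ne_zero
    obtain ⟨A, c, hA, hA1, hc, hAe⟩ := hτ.exists_transitive hM.two_le hu₀ hu
    obtain ⟨g, hg, eg⟩ := hM.left A hA hA1
    have h1 := hM.full_smul (hM.full_map h hg) c⁻¹
    rwa [eg, mulL_inj, hAe, map_smul, smul_smul, inv_mul_cancel₀ hc, one_smul] at h1
  intro e f he hf hef μ hμ
  have hfe : hd τ f e = 1 := by rw [← hτ.hd_conj, hef, map_one]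
  obtain ⟨κ, hκ0, hκ⟩ := hτ.exists_skew
  have hline : ∀ x : β → F, x ≠ 0 → hd τ x x = 0 → Full τ M (inj x e) := fun x h0 h =>
    hM.full_iso hα hβ hs hs0 hs1 hN h0 h he
  have step : ∀ p q d : β → F, hd τ q q = 0 → Full τ M (inj p e + inj q f) → τ (hd τ p q) = -hd τ p q →
      hd τ d d = 0 → hd τ d q ≠ 0 → τ (hd τ d q) = -hd τ d q → Full τ M (inj (p + d) e + inj q f) := by
    intro p q d _ h hpq hdd hdq hdq'
    have hd0 : d ≠ 0 := fun e0 => hdq (by rw [e0, hd_zero_left])
    have hz : ∀ p, τ (hd τ p q) = -hd τ p q → th τ (inj p e + inj q f) (inj p e + inj q f : VV) = 0 := by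
      intro p hpq
      simp only [th_add_left, th_add_right, th_inj_left hτ, ct_inj, hd_smul_right, he, hf, hef, hfe, hτ.hd_conj,
        mul_zero, mul_one, zero_add, add_zero]
      rw [← hτ.hd_conj p q, hpq]
      ring
    have e1 : inj (p + d) e + inj q f = (inj p e + inj q f) + (1 : F) • (inj d e : VV) := by
      rw [inj_add_left, one_smul]; abel
    rw [e1]
    refine hM.full_move h (hline d hd0 hdd) (hz p hpq)
      (by rw [th_inj_left hτ, ct_inj, hd_smul_right, he, mul_zero]) ?_ ?_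
    · simp only [th_add_left, th_inj_left hτ, ct_inj, hd_smul_right, he, hfe, mul_zero, mul_one, zero_add, hτ.hd_conj]
      exact fun e' => hdq (hτ.hd_symm_zero e')
    · rw [← e1]
      exact hz _ (by rw [hd_add_left, map_add, hpq, hdq', neg_add])
  obtain ⟨w₁, hw1, hw01⟩ := hτ.exists_partner hw0 hw
  -- a two-term point with second part on the given line
  set q := w with hqd
  set p := κ • w₁ with hpd
  have hq : hd τ q q = 0 := hw
  have hpp : hd τ p p = 0 := by simp [p, hd_smul_left, hd_smul_right, hw1]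
  have hp0 : p ≠ 0 := smul_ne_zero hκ0 fun e' => zero_ne_one (by rw [← hw01, e', hd_zero_right])
  have hpq : hd τ p q = κ := by rw [hd_smul_left, ← hτ.hd_conj, hw01, map_one, mul_one]
  have hqp : hd τ q p = -κ := by rw [← hτ.hd_conj, hpq, hκ]
  have hpqi : p ∉ F ∙ q := fun hm => by
    obtain ⟨r, hr⟩ := Submodule.mem_span_singleton.1 hm
    rw [← hr, hd_smul_left, hq, mul_zero, eq_comm] at hpq
    exact hκ0 hpq
  have hz0 : Full τ M (inj p e + inj q f) := by
    rw [← one_smul F (inj q f : VV)]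
    refine hM.full_move (hline p hp0 hpp) (hM.full_iso hα hβ hs hs0 hs1 hN hw0 hw hf)
      (by rw [th_inj_left hτ, ct_inj, hd_smul_right, he, mul_zero])
      (by rw [th_inj_left hτ, ct_inj, hd_smul_right, hf, mul_zero]) ?_ ?_
    · rw [th_inj_left hτ, ct_inj, hd_smul_right, hef, mul_one, hτ.hd_conj, hpq]
      exact hκ0
    · simp only [one_smul, th_add_left, th_add_right, th_inj_left hτ, ct_inj, hd_smul_right, he, hf, hef, hfe,
        hτ.hd_conj, hpq, hqp, mul_zero, mul_one, zero_add, add_zero, map_neg, hκ]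
      ring
  have hgoal : (inj q (μ • e + f) : VV) = inj (μ • q) e + inj q f := by
    simp only [map_add, map_smul, inj_smul_left]
  rw [hgoal]
  have hμq : hd τ (μ • q) q = 0 := by rw [hd_smul_left, hq, mul_zero]
  set Y := μ • q - p with hY
  have hYq : hd τ Y q = -κ := by rw [hd_sub_left, hμq, zero_sub, hpq]
  have hq0 : q ≠ 0 := hw0
  have hli : LinearIndependent F ![q, Y] := (LinearIndependent.pair_iff' hq0).2 fun r hr => hpqi (by
    refine Submodule.mem_span_singleton.2 ⟨μ - r, ?_⟩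
    rw [sub_smul, hr, hY, sub_sub_cancel])
  obtain ⟨h', hh'⟩ := hτ.exists_trace (c := hd τ Y Y) (hτ.self_fixed Y)
  obtain ⟨c, hc0, hc, hc'⟩ : ∃ c : F, c ≠ 0 ∧ τ c = -c ∧ -κ - c ≠ 0 := by
    refine ⟨-(s * κ), neg_ne_zero.2 (mul_ne_zero hs0 hκ0), by rw [map_neg, map_mul, hs, hκ]; ring, ?_⟩
    rw [show -κ - -(s * κ) = (s - 1) * κ by ring]
    exact mul_ne_zero (sub_ne_zero.2 hs1) hκ0
  obtain ⟨d, hdq, hdY, hdd⟩ := hτ.exists_pair_prescribed hβ hli (p₀ := c) (p₁ := h') (p₁' := h' + κ)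
    (map_zero τ) (fun e0 => hκ0 (left_eq_add.1 e0)) (Or.inl hc0)
  obtain ⟨h'', hdY, hh''⟩ : ∃ h'', hd τ d Y = h'' ∧ h'' + τ h'' = hd τ Y Y := by
    rcases hdY with e0 | e0
    · exact ⟨h', e0, hh'⟩
    · exact ⟨h' + κ, e0, by rw [map_add, hκ, ← hh']; ring⟩
  have hcq : τ (hd τ p q) = -hd τ p q := by rw [hpq, hκ]
  have h1 := step p q d hq hz0 hcq hdd (hdq ▸ hc0) (hdq ▸ hc)
  have hp1 : hd τ (p + d) q = κ + c := by rw [hd_add_left, hdq, hpq]
  have hYd : hd τ (Y - d) q = -κ - c := by rw [hd_sub_left, hYq, hdq]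
  have h2 := step (p + d) q (Y - d) hq h1 (by rw [hp1, map_add, hκ, hc, neg_add])
    (by simp only [hd_sub_left, hd_sub_right, hdd, hdY, ← hτ.hd_conj d Y]; linear_combination -hh'')
    (by rw [hYd]; exact hc') (by rw [hYd, map_sub, map_neg, hκ, hc]; ring)
  rwa [show p + d + (Y - d) = μ • q by simp [Y]] at h2

/-- The rows may be moved independently within their norms. -/
theorem full_rows_three (hN : NonRootU τ M) {T T' : VV}
    (hz : ∀ i, T i = 0 ↔ T' i = 0) (hn : ∀ i, hd τ (T i) (T i) = hd τ (T' i) (T' i)) (h : Full τ M T) :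
    Full τ M T' := by
  classical
  have hτ := hM.conj
  have key : ∀ S : Finset α, Full τ M (Matrix.of fun i => if i ∈ S then T' i else T i : VV) := by
    intro S
    induction S using Finset.induction with
    | empty => convert h using 1; ext i j; simp
    | @insert a S ha ih =>
      set R : VV := Matrix.of fun i => if i ∈ S then T' i else T i with hR
      have e : (Matrix.of fun i => if i ∈ insert a S then T' i else T i : VV) = Matrix.updateRow R a (T' a) := by
        ext i j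
        rcases eq_or_ne i a with rfl | hi
        · simp
        · simp [hR, hi]
      rw [e]
      have hRa : R a = T a := by funext j; simp [hR, ha]
      rcases eq_or_ne (T a) 0 with h0 | h0
      · rwa [(hz a).1 h0, ← h0, ← hRa, Matrix.updateRow_eq_self]
      refine hτ.move_induction_three hβ hs hs0 hs1 (P := fun x => Full τ M (Matrix.updateRow R a x))
        (fun x v k hv hk hx => ?_)
        h0 (fun e' => h0 ((hz a).2 e')) (hn a) (by rwa [← hRa, Matrix.updateRow_eq_self])
      rcases eq_or_ne v 0 with rfl | hv0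
      · simpa using hx
      obtain ⟨g, hg, eg⟩ := hM.full_pure_three hα hβ hs hs0 hs1 hN (u := Pi.single a 1)
        (by rw [hd_single_right]; simp) hv0 hv k hk
      convert hM.full_map hx hg using 1
      rw [eg, LinearMap.add_apply, Module.End.one_apply, trv_apply, th_inj_right hτ, hd_single_right, map_one, mul_one,
        ct_apply, Matrix.updateRow_self]
      ext i j
      simp only [Matrix.add_apply, Matrix.smul_apply, inj_apply, Matrix.vecMulVec_apply, smul_eq_mul]
      rcases eq_or_ne i a with rfl | hi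
      · simp
      · simp [hi]
  convert key Finset.univ using 1
  ext i j
  simp

/-- All isotropic points are full. -/
theorem full_all_three (hN : NonRootU τ M) {T : VV} (hT : th τ T T = 0) : Full τ M T := by
  classical
  have hτ := hM.conj
  obtain ⟨w₀, hw0, hw, -⟩ := hτ.exists_isotropic_perp (fun i : Fin 0 => (0 : β → F)) (by omega)
  obtain ⟨w₁, hw1, hw01⟩ := hτ.exists_partner hw0 hw
  have hw₁0 : w₁ ≠ 0 := fun e' => zero_ne_one (by rw [← hw01, e', hd_zero_right])
  obtain ⟨a₀, a₁, hne, huniv⟩ : ∃ a₀ a₁ : α, a₀ ≠ a₁ ∧ (Finset.univ : Finset α) = {a₀, a₁} :=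
    Finset.card_eq_two.1 (by rw [Finset.card_univ, hα])
  have hcases : ∀ i, i = a₀ ∨ i = a₁ := fun i => by
    have := Finset.mem_univ i
    rw [huniv] at this
    simpa using this
  let mk : (β → F) → (β → F) → VV := fun x y => Matrix.of fun i => if i = a₀ then x else y
  have mk0 : ∀ x y, mk x y a₀ = x := fun x y => by funext j; simp [mk]
  have mk1 : ∀ x y, mk x y a₁ = y := fun x y => by funext j; simp [mk, hne.symm]
  have hth : ∀ S : VV, th τ S S = hd τ (S a₀) (S a₀) + hd τ (S a₁) (S a₁) := fun S => by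
    rw [th, huniv, Finset.sum_pair hne]
  have ext2 : ∀ {S S' : VV}, S a₀ = S' a₀ → S a₁ = S' a₁ → S = S' := fun h0 h1 => funext fun i => by
    rcases hcases i with rfl | rfl <;> assumption
  -- points with two singular rows
  have hiso : ∀ x y : β → F, x ≠ 0 → y ≠ 0 → hd τ x x = 0 → hd τ y y = 0 → Full τ M (mk x y) := by
    intro x y hx0 hy0 hx hy
    obtain ⟨c, hc⟩ : ∃ c : F, c * τ c = -1 + s⁻¹ := hτ.exists_norm (by rw [map_add, map_neg, map_one, map_inv₀, hs])
    have hc0 : c ≠ 0 := fun e0 => hs1 (by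
      rw [e0, zero_mul] at hc
      exact inv_eq_one.1 (by linear_combination -hc))
    have hu : hd τ (fun i => if i = a₀ then (1 : F) else c) (fun i => if i = a₀ then (1 : F) else c) ≠ 0 := by
      rw [hd_apply, huniv, Finset.sum_pair hne, if_pos rfl, if_neg hne.symm, map_one, mul_one, hc,
        add_neg_cancel_left]
      exact inv_ne_zero hs0
    refine hM.full_rows_three hα hβ hs hs0 hs1 hN (fun i => ?_) (fun i => ?_)
      (hM.full_pure_three hα hβ hs hs0 hs1 hN hu hw0 hw)
    · rcases hcases i with rfl | rfl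
      · rw [mk0, show (inj w₀ _ : VV) i = (1 : F) • w₀ from by funext j; simp [inj_apply, Matrix.vecMulVec_apply],
          one_smul]
        exact iff_of_false hw0 hx0
      · rw [mk1, show (inj w₀ _ : VV) i = c • w₀ from by
          funext j; simp [inj_apply, Matrix.vecMulVec_apply, hne.symm]]
        exact iff_of_false (smul_ne_zero hc0 hw0) hy0
    · rcases hcases i with rfl | rfl
      · rw [mk0, hx, show (inj w₀ _ : VV) i = (1 : F) • w₀ from by funext j; simp [inj_apply, Matrix.vecMulVec_apply],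
          one_smul, hw]
      · rw [mk1, hy, show (inj w₀ _ : VV) i = c • w₀ from by
          funext j; simp [inj_apply, Matrix.vecMulVec_apply, hne.symm], hd_smul_left, hd_smul_right, hw, mul_zero,
          mul_zero]
  rw [hth] at hT
  by_cases hν : hd τ (T a₀) (T a₀) = 0
  · rw [hν, zero_add] at hT
    rcases eq_or_ne (T a₀) 0 with h0 | h0 <;> rcases eq_or_ne (T a₁) 0 with h1 | h1
    · rw [show T = 0 from ext2 h0 h1]; exact hM.full_zero
    · rw [show T = inj (T a₁) (Pi.single a₁ 1) from ext2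
        (by rw [h0]; funext j; simp [inj_apply, Matrix.vecMulVec_apply, hne])
        (by funext j; simp [inj_apply, Matrix.vecMulVec_apply])]
      exact hM.full_pure_three hα hβ hs hs0 hs1 hN (by rw [hd_single_right]; simp) h1 hT
    · rw [show T = inj (T a₀) (Pi.single a₀ 1) from ext2
        (by funext j; simp [inj_apply, Matrix.vecMulVec_apply])
        (by rw [h1]; funext j; simp [inj_apply, Matrix.vecMulVec_apply, hne.symm])]
      exact hM.full_pure_three hα hβ hs hs0 hs1 hN (by rw [hd_single_right]; simp) h0 hν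
    · rw [show T = mk (T a₀) (T a₁) from ext2 (mk0 _ _).symm (mk1 _ _).symm]
      exact hiso _ _ h0 h1 hν hT
  set ν := hd τ (T a₀) (T a₀) with hνd
  obtain ⟨κ, hκ0, hκ⟩ := hτ.exists_skew
  obtain ⟨θ, hθ⟩ := hτ.exists_trace (c := ν) (hτ.self_fixed _)
  obtain ⟨b, hb0, hb, hab⟩ : ∃ b : F, b ≠ 0 ∧ b + τ b = -ν ∧ θ + b ≠ 0 := by
    refine ⟨-θ + κ, fun e0 => hν ?_, by rw [map_add, map_neg, hκ, ← hθ]; ring, by
      rw [add_neg_cancel_left]; exact hκ0⟩
    rw [← hθ, neg_add_eq_zero.1 e0, hκ]; ring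
  have hθ0 : θ ≠ 0 := fun e0 => hν (by rw [← hθ, e0, map_zero, add_zero])
  have hw10 : hd τ w₁ w₀ = 1 := by rw [← hτ.hd_conj, hw01, map_one]
  set u := mk w₀ w₀ with hu
  set v := mk (θ • w₁) (b • w₁) with hv
  have hvv : ∀ c : F, hd τ (c • w₁) (c • w₁) = 0 := fun c => by rw [hd_smul_left, hd_smul_right, hw1, mul_zero, mul_zero]
  have hR : Full τ M (u + (1 : F) • v) := by
    refine hM.full_move (hiso _ _ hw0 hw0 hw hw) (hiso _ _ (smul_ne_zero hθ0 hw₁0) (smul_ne_zero hb0 hw₁0) (hvv _) (hvv _))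
      (by rw [hth, mk0, mk1, hw, add_zero]) (by rw [hth, mk0, mk1, hvv, hvv, add_zero]) ?_ ?_
    · rw [th, huniv, Finset.sum_pair hne, mk0, mk1, mk0, mk1, hd_smul_right, hd_smul_right, hw01, mul_one,
        mul_one, ← map_add]
      exact (EmbeddingLike.map_ne_zero_iff).2 hab
    · rw [one_smul, hth, show (u + v) a₀ = w₀ + θ • w₁ by rw [← mk0 w₀ w₀, ← mk0 (θ • w₁) (b • w₁)]; rfl,
        show (u + v) a₁ = w₀ + b • w₁ by rw [← mk1 w₀ w₀, ← mk1 (θ • w₁) (b • w₁)]; rfl]
      simp only [hd_add_left, hd_add_right, hd_smul_left, hd_smul_right, hw, hw1, hw01, hw10, mul_zero, mul_one]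
      linear_combination hθ + hb
  have hn : ∀ c : F, hd τ (w₀ + c • w₁) (w₀ + c • w₁) = c + τ c := fun c => by
    simp only [hd_add_left, hd_add_right, hd_smul_left, hd_smul_right, hw, hw1, hw01, hw10, mul_zero, mul_one]; ring
  have e0 : (u + (1 : F) • v) a₀ = w₀ + θ • w₁ := by rw [one_smul, ← mk0 w₀ w₀, ← mk0 (θ • w₁) (b • w₁)]; rfl
  have e1 : (u + (1 : F) • v) a₁ = w₀ + b • w₁ := by rw [one_smul, ← mk1 w₀ w₀, ← mk1 (θ • w₁) (b • w₁)]; rfl
  have hT1 : hd τ (T a₁) (T a₁) = -ν := by linear_combination hT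
  refine hM.full_rows_three hα hβ hs hs0 hs1 hN (fun i => ?_) (fun i => ?_) hR
  · rcases hcases i with rfl | rfl
    · exact iff_of_false (fun h => hν (by rw [← hθ, ← hn, ← e0, h, hd_zero_left]))
        (fun h => hν (by rw [hνd, h, hd_zero_left]))
    · exact iff_of_false (fun h => hν (neg_eq_zero.1 (by rw [← hb, ← hn, ← e1, h, hd_zero_left])))
        (fun h => hν (neg_eq_zero.1 (by rw [← hT1, h, hd_zero_left])))
  · rcases hcases i with rfl | rfl
    · rw [e0, hn, hθ]
    · rw [e1, hn, hb, hT1]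

end UBase

end CfsgLib.TensorMax.Unitary
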