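import Cfsg.Agent.Lib.TensorMax.Unitary.Radical
import Cfsg.Agent.Lib.TensorMax.Unitary.TwoThree.Full

/-!
A plane tensor a three-space: frames, quotients of elements fixing a singular line, and images of singular lines
orthogonal to singular lines.
-/

set_option autoImplicit false
set_option linter.unusedSectionVars false

namespace CfsgLib.TensorMax.Unitary

open scoped Matrix
open CfsgLib.FieldMax (Mem map_unit_inj inv_apply_apply apply_inv_apply)

variable {F : Type*} [Field F] [Fintype F] {α β : Type} [Fintype α] [Fintype β] [DecidableEq α] [DecidableEq β]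

local notation "VV" => Matrix α β F

variable {τ : F ≃+* F}

/-- A hyperbolic pair and a non-singular vector orthogonal to it. -/
structure Frame (τ : F ≃+* F) (w w' k : β → F) : Prop where
  iso : hd τ w w = 0
  iso' : hd τ w' w' = 0
  pair : hd τ w w' = 1
  pair' : hd τ w' w = 1
  kw : hd τ k w = 0
  kw' : hd τ k w' = 0
  wk : hd τ w k = 0
  wk' : hd τ w' k = 0
  kk : hd τ k k ≠ 0

theorem Frame.ne {w w' k : β → F} (h : Frame τ w w' k) : w ≠ 0 := fun e => zero_ne_one (by
  rw [← h.pair, e, hd_zero_left])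

theorem Frame.eq_comb (hτ : Conj τ) (hβ : Fintype.card β = 3) {w w' k : β → F} (h : Frame τ w w' k) (x : β → F) :
    x = hd τ x w' • w + hd τ x w • w' + (hd τ x k / hd τ k k) • k := by
  have hli : LinearIndependent F ![w, w', k] := Fintype.linearIndependent_iff.2 fun c hc => by
    rw [Fin.sum_univ_three] at hc
    simp only [Matrix.cons_val_zero, Matrix.cons_val_one, Matrix.cons_val] at hc
    have h1 := congrArg (fun y => hd τ y w') hc
    have h2 := congrArg (fun y => hd τ y w) hc
    have h3 := congrArg (fun y => hd τ y k) hc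
    simp only [hd_add_left, hd_smul_left, h.iso, h.iso', h.pair, h.pair', h.kw, h.kw', h.wk, h.wk', hd_zero_left,
      mul_zero, mul_one, add_zero, zero_add, mul_eq_zero, h.kk, or_false] at h1 h2 h3
    intro i
    fin_cases i <;> assumption
  set y := x - (hd τ x w' • w + hd τ x w • w' + (hd τ x k / hd τ k k) • k) with hy
  have hmem : y ∈ perp τ ![w, w', k] := mem_perp.2 fun i => by
    fin_cases i <;> simp [hy, hd_sub_left, hd_add_left, hd_smul_left, h.iso, h.iso', h.pair, h.pair', h.kw, h.kw',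
      h.wk, h.wk', div_mul_cancel₀ _ h.kk]
  have h0 := hτ.finrank_perp hli
  have hbot : perp τ ![w, w', k] = ⊥ := Submodule.finrank_eq_zero.1 (by omega)
  rw [hbot, Submodule.mem_bot, hy, sub_eq_zero] at hmem
  exact hmem

theorem Frame.eq_comb_ten (hτ : Conj τ) (hβ : Fintype.card β = 3) {w w' k : β → F} (h : Frame τ w w' k) (T : VV) :
    T = inj w (ct τ w' T) + inj w' (ct τ w T) + inj k ((hd τ k k)⁻¹ • ct τ k T) := by
  funext i
  conv_lhs => rw [h.eq_comb hτ hβ (T i)]
  funext j
  simp [inj_apply, Matrix.vecMulVec_apply, ct_apply, div_eq_inv_mul, mul_assoc]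

theorem Conj.exists_frame (hτ : Conj τ) (hβ : Fintype.card β = 3) {w : β → F} (hw0 : w ≠ 0) (hw : hd τ w w = 0) :
    ∃ w' k, Frame τ w w' k := by
  obtain ⟨w', hw', hww'⟩ := hτ.exists_partner hw0 hw
  have hw'w : hd τ w' w = 1 := by rw [← hτ.hd_conj, hww', map_one]
  obtain ⟨k, hk, hk0⟩ := (perp τ ![w, w']).exists_mem_ne_zero_of_ne_bot fun e => by
    have h := le_finrank_perp (τ := τ) ![w, w']
    rw [e, finrank_bot] at h
    omega
  have hkw : hd τ k w = 0 := mem_perp.1 hk 0
  have hkw' : hd τ k w' = 0 := mem_perp.1 hk 1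
  refine ⟨w', k, hw, hw', hww', hw'w, hkw, hkw', hτ.hd_symm_zero hkw, hτ.hd_symm_zero hkw', fun hkk => hk0 ?_⟩
  have hli : LinearIndependent F ![w, w', k] := Fintype.linearIndependent_iff.2 fun c hc => by
    rw [Fin.sum_univ_three] at hc
    simp only [Matrix.cons_val_zero, Matrix.cons_val_one, Matrix.cons_val] at hc
    have h1 := congrArg (fun y => hd τ y w') hc
    have h2 := congrArg (fun y => hd τ y w) hc
    simp only [hd_add_left, hd_smul_left, hw, hw', hww', hw'w, hkw, hkw', hd_zero_left,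
      mul_zero, mul_one, add_zero, zero_add] at h1 h2
    rw [h1, h2, zero_smul, zero_smul, zero_add, zero_add] at hc
    intro i
    fin_cases i
    exacts [h1, h2, (smul_eq_zero.1 hc).resolve_right hk0]
  have hbot : perp τ ![w, w', k] = ⊥ := Submodule.finrank_eq_zero.1 (by
    have := hτ.finrank_perp hli
    omega)
  refine (Submodule.mem_bot F).1 (hbot ▸ mem_perp.2 fun i => ?_)
  fin_cases i
  exacts [hkw, hkw', hkk]

/-- A map lowering the flag of a singular line. -/
structure Flag (τ : F ≃+* F) (w : β → F) (X : Module.End F (Matrix α β F)) : Prop where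
  out : ∀ T, ct τ w (X T) = 0
  mid : ∀ T, ct τ w T = 0 → ∃ u, X T = inj w u
  low : ∀ u, X (inj w u) = 0

theorem Flag.triple {w : β → F} {X Y Z : Module.End F VV} (hX : Flag τ w X) (hY : Flag τ w Y) (hZ : Flag τ w Z) :
    X * Y * Z = 0 := LinearMap.ext fun T => by
  obtain ⟨u, hu⟩ := hY.mid _ (hZ.out T)
  rw [Module.End.mul_apply, Module.End.mul_apply, hu, hX.low, LinearMap.zero_apply]

theorem Flag.commutator {M : Subgroup (Module.End F VV)ˣ} {w : β → F} {A B : Module.End F VV} (hA : Mem M A)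
    (hB : Mem M B) (fA : Flag τ w A) (fB : Flag τ w B) : Mem M (A * B - B * A) := by
  obtain ⟨x, hx, ex⟩ := hA
  obtain ⟨y, hy, ey⟩ := hB
  refine ⟨x * y * x⁻¹ * y⁻¹, mul_mem (mul_mem (mul_mem hx hy) (inv_mem hx)) (inv_mem hy), ?_⟩
  have h : ((x * y : (Module.End F VV)ˣ) : Module.End F VV) =
      (1 + (A * B - B * A)) * ((y * x : (Module.End F VV)ˣ) : Module.End F VV) := by
    simp only [Units.val_mul, ex, ey, add_mul, mul_add, one_mul, mul_one, sub_mul, ← mul_assoc, fA.triple fB fA,
      fA.triple fB fB, fB.triple fA fA, fB.triple fA fB, sub_self, zero_mul, sub_zero, add_zero, zero_add]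
    abel
  calc ((x * y * x⁻¹ * y⁻¹ : (Module.End F VV)ˣ) : Module.End F VV)
      = ((x * y : (Module.End F VV)ˣ) : Module.End F VV) * (((y * x)⁻¹ : (Module.End F VV)ˣ) : Module.End F VV) := by
        rw [← Units.val_mul, mul_inv_rev]; simp only [mul_assoc]
    _ = _ := by rw [h, mul_assoc, Units.mul_inv, mul_one]

theorem isScal_id (c : F) : IsScal (c • (LinearMap.id : (α → F) →ₗ[F] (α → F))) := ⟨c, fun u => rfl⟩

namespace UBase

variable {M : Subgroup (Module.End F (Matrix α β F))ˣ} (hM : UBase τ M) (hβ : Fintype.card β = 3)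
  {w w' k : β → F} (hfr : Frame τ w w' k)

include hM hβ hfr

theorem flag_sg {e : β → F} (he : hd τ e w = 0) (c : F) : Flag τ w (sg τ w e c : Module.End F VV) where
  out T := by simp [sg_apply, ct_inj, hfr.iso, he]
  mid T hT := ⟨-ct τ e T, by rw [sg_apply, hT]; simp⟩
  low u := by
    rw [sg_apply]
    simp [ct_inj, hfr.iso, hM.conj.hd_symm_zero he]

theorem exists_sg (l : F) : ∃ c : F, Mem M (sg τ w (l • k) c : Module.End F VV) := by
  obtain ⟨c, hc⟩ := hM.conj.exists_trace (c := -hd τ (l • k) (l • k)) (by rw [map_neg, hM.conj.self_fixed])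
  exact ⟨c, hM.mem_sg hfr.iso (by rw [hd_smul_left, hfr.kw, mul_zero]) (by linear_combination hc)⟩

/-- An element fixing a singular line pointwise acts by a scalar on the quotient. -/
theorem quot_scalar {x : (Module.End F VV)ˣ} (hx : x ∈ M) (hfix : ∀ u, (x : Module.End F VV) (inj w u) = inj w u) :
    NonRootU τ M ∨ IsScal (ct τ k ∘ₗ (x : Module.End F VV) ∘ₗ inj k) := by
  refine or_iff_not_imp_left.2 fun hN => ?_
  set xi := ((x⁻¹ : (Module.End F VV)ˣ) : Module.End F VV) with hxi
  have hfix' : ∀ u, xi (inj w u) = inj w u := fun u => by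
    conv_lhs => rw [← hfix u, hxi, inv_apply_apply]
  have hctx : ∀ T, ct τ w (xi T) = ct τ w T := hM.ct_of_fix (inv_mem hx) hfix'
  have hctx0 := hM.ct_of_fix hx hfix
  obtain ⟨c₁, hB⟩ := hM.exists_sg hβ hfr 1
  rw [one_smul] at hB
  suffices h : ∀ l : F, IsScal (l • (ct τ k ∘ₗ (x : Module.End F VV) ∘ₗ inj k) + τ l • (-(ct τ k ∘ₗ xi ∘ₗ inj k))) from
    (IsScal.of_semilinear hM.conj h).1
  intro l
  obtain ⟨c₂, hC⟩ := hM.exists_sg hβ hfr l
  set A : Module.End F VV := (x : Module.End F VV) * sg τ w (l • k) c₂ * xi with hA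
  have hAm : Mem M A := hC.conj hx
  have hlk : hd τ (l • k) w = 0 := by rw [hd_smul_left, hfr.kw, mul_zero]
  have fC := hM.flag_sg hβ hfr hlk c₂
  have fB := hM.flag_sg hβ hfr hfr.kw c₁
  have fA : Flag τ w A := by
    refine ⟨fun T => by rw [hA, Module.End.mul_apply, Module.End.mul_apply, hctx0, fC.out], fun T hT => ?_,
      fun u => by rw [hA, Module.End.mul_apply, Module.End.mul_apply, hfix', fC.low, map_zero]⟩
    obtain ⟨u, hu⟩ := fC.mid (xi T) (by rw [hctx, hT])
    exact ⟨u, by rw [hA, Module.End.mul_apply, Module.End.mul_apply, hu, hfix]⟩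
  by_contra hE
  refine hN ⟨w, _, hfr.ne, hfr.iso, ?_, hE⟩
  convert Flag.commutator hAm hB fA fB using 1
  refine LinearMap.ext fun T => ?_
  simp only [hA, LinearMap.sub_apply, Module.End.mul_apply, sg_apply, map_add, map_sub, map_smul, map_zero, hfix,
    hfix', hctx, hctx0, ct_inj, ct_smul, hd_smul_right, mul_zero, inj_smul_left, hfr.iso, hfr.wk, hfr.kw, zero_smul, smul_zero, add_zero,
    zero_add, zero_sub, sub_zero, map_neg, LinearMap.comp_apply, LinearMap.add_apply, LinearMap.smul_apply,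
    LinearMap.neg_apply]
  module

/-- An element of the unipotent radical acts by a scalar between the quotients. -/
theorem mid_scalar {x : (Module.End F VV)ˣ} (hx : x ∈ M) {C : Module.End F VV} (ex : (x : Module.End F VV) = 1 + C)
    (hfix : ∀ u, C (inj w u) = 0) (hq : ∀ u, ct τ k (C (inj k u)) = 0) :
    NonRootU τ M ∨ IsScal (ct τ k ∘ₗ C ∘ₗ inj w') := by
  refine or_iff_not_imp_left.2 fun hN => ?_
  have hxfix : ∀ u, (x : Module.End F VV) (inj w u) = inj w u := fun u => by simp [ex, hfix]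
  have hout : ∀ T, ct τ w (C T) = 0 := fun T => by
    have h := hM.ct_of_fix hx hxfix T
    rw [ex, LinearMap.add_apply, Module.End.one_apply, map_add] at h
    exact left_eq_add.1 h.symm
  have hk' : ∀ u, C (inj k u) = inj w (ct τ w' (C (inj k u))) := fun u => by
    conv_lhs => rw [hfr.eq_comb_ten hM.conj hβ (C (inj k u)), hout, hq, smul_zero, map_zero, map_zero, add_zero, add_zero]
  have fC : Flag τ w C := ⟨hout, fun T hT => ⟨ct τ w' (C (inj k ((hd τ k k)⁻¹ • ct τ k T))), by
    conv_lhs => rw [hfr.eq_comb_ten hM.conj hβ T, hT, map_zero, add_zero, map_add, hfix, zero_add]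
    exact hk' _⟩, hfix⟩
  have hkC : ∀ T, ct τ k (C T) = ct τ k (C (inj w' (ct τ w T))) := fun T => by
    conv_lhs => rw [hfr.eq_comb_ten hM.conj hβ T, map_add C, map_add C, hfix, zero_add, map_add, hq, add_zero]
  suffices h : ∀ l : F, IsScal (l • (ct τ w' ∘ₗ C ∘ₗ inj k) + τ l • (ct τ k ∘ₗ C ∘ₗ inj w')) from
    (IsScal.of_semilinear hM.conj h).2
  intro l
  obtain ⟨c₂, hB⟩ := hM.exists_sg hβ hfr l
  have fB := hM.flag_sg hβ hfr (e := l • k) (by rw [hd_smul_left, hfr.kw, mul_zero]) c₂
  by_contra hE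
  refine hN ⟨w, _, hfr.ne, hfr.iso, ?_, hE⟩
  convert Flag.commutator ⟨x, hx, ex⟩ hB fC fB using 1
  refine LinearMap.ext fun T => ?_
  simp only [LinearMap.sub_apply, Module.End.mul_apply, sg_apply, map_add, map_sub, map_smul, hout, hfix,
    inj_smul_left, ct_smul, zero_sub, map_zero, add_zero, zero_add, smul_zero, sub_zero, LinearMap.comp_apply,
    LinearMap.add_apply, LinearMap.smul_apply, map_neg, sub_neg_eq_add]
  rw [hk', hkC T, ct_inj, hfr.pair, one_smul]

omit hfr in
/-- An element stabilising a singular line acts on it by a similitude. -/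
theorem similitude_of_stab {x : (Module.End F VV)ˣ} (hx : x ∈ M) {v : β → F} (hv0 : v ≠ 0) (hv : hd τ v v = 0)
    (D : Matrix α α F) (hD : ∀ u, (x : Module.End F VV) (inj v u) = inj v (D *ᵥ u)) :
    NonRootU τ M ∨ ∃ c : F, ∀ u, D *ᵥ (hadj τ D *ᵥ u) = c • u := by
  refine or_iff_not_imp_left.2 fun hN => ?_
  obtain ⟨κ, hκ0, hκ⟩ := hM.conj.exists_skew
  suffices h : IsScal (κ • Matrix.mulVecLin (D * hadj τ D)) by
    obtain ⟨c, hc⟩ := IsScal.of_smul hκ0 h
    exact ⟨c, fun u => by rw [← hc u, Matrix.mulVecLin_apply, Matrix.mulVec_mulVec]⟩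
  by_contra hE
  refine hN ⟨v, _, hv0, hv, ?_, hE⟩
  convert (hM.mem_rt hv hκ).conj hx using 1
  refine LinearMap.ext fun T => ?_
  have hct : ct τ v (((x⁻¹ : (Module.End F VV)ˣ) : Module.End F VV) T) = hadj τ D *ᵥ ct τ v T := by
    refine hM.conj.eq_of_forall fun a => ?_
    rw [hd_hadj hM.conj, ← th_inj_right hM.conj, ← th_inj_right hM.conj, hM.adj (inv_mem hx), inv_inv, hD]
  simp only [Module.End.mul_apply, LinearMap.comp_apply, LinearMap.smul_apply, hct, map_smul, hD,
    Matrix.mulVecLin_apply, Matrix.mulVec_mulVec]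

omit hfr in
/-- An image of a singular line orthogonal to another singular line. -/
theorem nonRoot_of_perp_three {g : (Module.End F VV)ˣ} (hg : g ∈ M) {w v : β → F} (hw0 : w ≠ 0) (hw : hd τ w w = 0)
    (hv0 : v ≠ 0) (hv : hd τ v v = 0) (hne : (line (α := α) w).map (g : Module.End F VV) ≠ line v)
    (hperp : ∀ a, ct τ v ((g : Module.End F VV) (inj w a)) = 0) : NonRootU τ M := by
  by_contra hN
  have hτ := hM.conj
  obtain ⟨v', k, hfr⟩ := hτ.exists_frame hβ hv0 hv
  obtain ⟨κ, hκ0, hκ⟩ := hτ.exists_skew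
  set gi := ((g⁻¹ : (Module.End F VV)ˣ) : Module.End F VV) with hgi
  set C : Module.End F VV := (g : Module.End F VV) * (inj w ∘ₗ (κ • ct τ w)) * gi with hC
  obtain ⟨x, hx, ex⟩ : Mem M C := (hM.mem_rt hw hκ).conj hg
  have hCv : ∀ T, C T = (g : Module.End F VV) (inj w (κ • ct τ w (gi T))) := fun T => rfl
  have hfix : ∀ u, C (inj v u) = 0 := fun u => by
    rw [hCv, show ct τ w (gi (inj v u)) = 0 from hτ.eq_zero_of_forall fun a => ?_, smul_zero, map_zero, map_zero]
    rw [← th_inj_right hτ, hgi, ← hM.adj' hg, th_inj_left hτ, hperp, hd_zero_right]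
  -- the projection of the image on the quotient is onto
  suffices hsurj : ∀ y, ∃ a, ct τ k ((g : Module.End F VV) (inj w a)) = y by
    obtain ⟨i₀⟩ : Nonempty α := Fintype.card_pos_iff.1 (by have := hM.two_le; omega)
    obtain ⟨a, ha⟩ := hsurj (Pi.single i₀ 1)
    have h : th τ ((g : Module.End F VV) (inj w a)) ((g : Module.End F VV) (inj w a)) = 0 := by
      rw [hM.iso g hg, th_inj_left hτ, ct_inj, hw, zero_smul, hd_zero_right]
    have h0 := hperp a
    generalize (g : Module.End F VV) (inj w a) = T at h ha h0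
    have h1 : th τ T T = th τ (inj v (ct τ v' T) + inj k ((hd τ k k)⁻¹ • ct τ k T)) T := by
      congr 1
      conv_lhs => rw [hfr.eq_comb_ten hτ hβ T, h0, map_zero, add_zero]
    rw [h1, th_add_left, th_inj_left hτ, th_inj_left hτ, h0, hd_zero_right, zero_add, hd_smul_left, ha,
      hd_single_right, Pi.single_eq_same, map_one, mul_one, mul_one] at h
    exact inv_ne_zero hfr.kk h
  intro y
  obtain ⟨c, hc⟩ := (hM.quot_scalar hβ hfr hx fun u => by simp [ex, hfix]).resolve_left hN
  have hG : ∀ u, ct τ k (C (inj k u)) = (c - hd τ k k) • u := fun u => by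
    have h := hc u
    simp only [LinearMap.comp_apply, ex, LinearMap.add_apply, Module.End.one_apply, map_add, ct_inj] at h
    rw [sub_smul, ← h, add_sub_cancel_left]
  by_cases hc0 : c - hd τ k k = 0
  swap
  · refine ⟨κ • ct τ w (gi (inj k ((c - hd τ k k)⁻¹ • y))), ?_⟩
    rw [← hCv, hG, smul_smul, mul_inv_cancel₀ hc0, one_smul]
  obtain ⟨d, hd'⟩ := (hM.mid_scalar hβ hfr hx ex hfix fun u => by rw [hG, hc0, zero_smul]).resolve_left hN
  have hd' : ∀ u, ct τ k (C (inj v' u)) = d • u := hd'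
  by_cases hd0 : d = 0
  swap
  · refine ⟨κ • ct τ w (gi (inj v' (d⁻¹ • y))), ?_⟩
    rw [← hCv, hd', smul_smul, mul_inv_cancel₀ hd0, one_smul]
  exfalso
  obtain ⟨w'', hw'', hww''⟩ := hτ.exists_partner hw0 hw
  have hw''w : hd τ w'' w = 1 := by rw [← hτ.hd_conj, hww'', map_one]
  refine hne (Submodule.eq_of_le_of_finrank_eq ?_ (by rw [finrank_map_line g hw0, finrank_line hv0]))
  rintro _ ⟨_, ⟨a, rfl⟩, rfl⟩
  have ha : (g : Module.End F VV) (inj w a) = C ((g : Module.End F VV) (inj w'' (κ⁻¹ • a))) := by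
    rw [hCv, hgi, inv_apply_apply, ct_inj, hw''w, one_smul, smul_smul, mul_inv_cancel₀ hκ0, one_smul]
  have h0 : ct τ k ((g : Module.End F VV) (inj w a)) = 0 := by
    rw [ha]
    generalize (g : Module.End F VV) (inj w'' (κ⁻¹ • a)) = T
    conv_lhs => rw [hfr.eq_comb_ten hτ hβ T, map_add, map_add, map_add, map_add, hfix, map_zero, zero_add, hd', hG,
      hd0, hc0, zero_smul, zero_smul, add_zero]
  exact ⟨ct τ v' ((g : Module.End F VV) (inj w a)), by
    conv_rhs => rw [hfr.eq_comb_ten hτ hβ ((g : Module.End F VV) (inj w a)), hperp, h0, smul_zero, map_zero, map_zero,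
      add_zero, add_zero]⟩

end UBase

end CfsgLib.TensorMax.Unitary
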