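import Cfsg.Agent.Lib.TensorMax.Unitary.TwoThree.Touch
import Cfsg.Agent.Lib.TensorMax.Unitary.Lines
import Mathlib.FieldTheory.Finite.GaloisField

/-!
A plane tensor a three-space: an element outside the stabiliser of the factorisation gives a radical element.
-/

set_option autoImplicit false
set_option linter.unusedSectionVars false

namespace CfsgLib.TensorMax.Unitary

open scoped Matrix
open CfsgLib.FieldMax (Mem map_unit_inj inv_apply_apply apply_inv_apply)

variable {F : Type*} [Field F] [Fintype F] {α β : Type} [Fintype α] [Fintype β] [DecidableEq α] [DecidableEq β]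

local notation "VV" => Matrix α β F

variable {τ : F ≃+* F}

/-- A quadratic equation over the fixed field has a root. -/
theorem Conj.exists_root_quadratic (hτ : Conj τ) {a b : F} (ha : τ a = a) (hb : τ b = b) :
    ∃ m : F, m * m - b * m - a = 0 := by
  classical
  let K := RingHom.eqLocusField (τ : F →+* F) (RingHom.id F)
  let P : Polynomial K := Polynomial.X ^ 2 - (Polynomial.C (⟨b, hb⟩ : K) * Polynomial.X + Polynomial.C (⟨a, ha⟩ : K))
  have hP : P.Monic := Polynomial.monic_X_pow_sub (lt_of_le_of_lt Polynomial.degree_linear_le (by norm_num))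
  have hdeg : P.natDegree = 2 := by
    simp only [P]
    rw [Polynomial.natDegree_sub_eq_left_of_natDegree_lt] <;> rw [Polynomial.natDegree_X_pow]
    exact lt_of_le_of_lt Polynomial.natDegree_linear_le (by norm_num)
  by_cases hroot : ∃ x : K, P.IsRoot x
  · obtain ⟨x, hx⟩ := hroot
    refine ⟨x, ?_⟩
    have h := congrArg (fun y : K => (y : F)) hx
    simp only [P, Polynomial.eval_sub, Polynomial.eval_add, Polynomial.eval_pow, Polynomial.eval_X,
      Polynomial.eval_mul, Polynomial.eval_C] at h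
    push_cast at h
    linear_combination h
  have hirr : Irreducible P := by
    rw [hP.irreducible_iff_roots_eq_zero_of_degree_le_three hdeg.ge (by omega), Multiset.eq_zero_iff_forall_notMem]
    exact fun x hx => hroot ⟨x, (Polynomial.mem_roots hP.ne_zero).1 hx⟩
  haveI := Fact.mk hirr
  obtain ⟨μ, hμ⟩ : ∃ μ : F, τ μ ≠ μ := by
    by_contra hcon
    push Not at hcon
    exact hτ.ne (RingEquiv.ext hcon)
  have hμ' : μ - τ μ ≠ 0 := sub_ne_zero.2 hμ.symm
  have hfin : Module.finrank K F = 2 := by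
    have hli : LinearIndependent K ![(1 : F), μ] := by
      refine (LinearIndependent.pair_iff' one_ne_zero).2 fun c hc => hμ ?_
      rw [← hc, Subfield.smul_def, smul_eq_mul, mul_one]
      exact c.2
    have hsp : (⊤ : Submodule K F) ≤ Submodule.span K (Set.range ![(1 : F), μ]) := fun z _ => by
      refine (Submodule.mem_span_range_iff_exists_fun K).2 ⟨![⟨z - (z - τ z) / (μ - τ μ) * μ, ?_⟩, ⟨(z - τ z) / (μ - τ μ), ?_⟩], ?_⟩
      · show τ _ = RingHom.id F _
        rw [RingHom.id_apply]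
        rw [map_sub, map_mul, map_div₀, map_sub, map_sub, hτ.invol, hτ.invol]
        rw [← neg_sub z (τ z), ← neg_sub μ (τ μ), neg_div_neg_eq]
        field_simp
        ring
      · show τ _ = RingHom.id F _
        rw [RingHom.id_apply]
        rw [map_div₀, map_sub, map_sub, hτ.invol, hτ.invol, ← neg_sub z (τ z), ← neg_sub μ (τ μ), neg_div_neg_eq]
      · simp [Fin.sum_univ_two, Subfield.smul_def]
    rw [Module.finrank_eq_card_basis (Module.Basis.mk hli hsp), Fintype.card_fin]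
  have hA : Module.finrank K (AdjoinRoot P) = 2 := by
    rw [(AdjoinRoot.powerBasis hirr.ne_zero).finrank, AdjoinRoot.powerBasis_dim, hdeg]
  haveI : Module.Finite K (AdjoinRoot P) := Module.finite_of_finrank_pos (by omega)
  haveI : Finite (AdjoinRoot P) := Module.finite_of_finite K
  obtain ⟨φ⟩ := FiniteField.nonempty_algHom_of_finrank_dvd (F := K) (K := AdjoinRoot P) (L := F) (by rw [hA, hfin])
  refine ⟨φ (AdjoinRoot.root P), ?_⟩
  have h : Polynomial.aeval (φ (AdjoinRoot.root P)) P = 0 := by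
    rw [Polynomial.aeval_algHom_apply, AdjoinRoot.aeval_eq, AdjoinRoot.mk_self, map_zero]
  simp only [P, map_sub, map_add, map_pow, map_mul, Polynomial.aeval_X, Polynomial.aeval_C,
    show ∀ x : K, algebraMap K F x = (x : F) from fun _ => rfl] at h
  linear_combination h

/-- A skew map of a plane has an eigenvector. -/
theorem Conj.exists_eigen (hτ : Conj τ) (hα : Fintype.card α = 2) (S : (α → F) →ₗ[F] (α → F))
    (hS : ∀ u v, hd τ (S u) v + hd τ u (S v) = 0) : ∃ (u : α → F) (σ : F), u ≠ 0 ∧ S u = σ • u := by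
  obtain ⟨i₀⟩ : Nonempty α := Fintype.card_pos_iff.1 (by omega)
  obtain ⟨ε, hε0, hε⟩ := hτ.exists_skew
  set u₀ : α → F := Pi.single i₀ 1
  have hu₀ : u₀ ≠ 0 := fun e => by simpa [u₀] using congrFun e i₀
  by_cases he : ∃ σ : F, S u₀ = σ • u₀
  · obtain ⟨σ, hσ⟩ := he
    exact ⟨u₀, σ, hu₀, hσ⟩
  push Not at he
  set H : (α → F) →ₗ[F] (α → F) := ε • S with hH
  have hherm : ∀ u v, hd τ (H u) v = hd τ u (H v) := fun u v => by
    simp only [hH, LinearMap.smul_apply, hd_smul_left, hd_smul_right, hε]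
    linear_combination ε * hS u v
  have hli : LinearIndependent F ![u₀, H u₀] := (LinearIndependent.pair_iff' hu₀).2 fun c hc =>
    he (ε⁻¹ * c) (by rw [mul_smul, hc, hH, LinearMap.smul_apply, inv_smul_smul₀ hε0])
  have hcomb : ∀ x : α → F, ∃ p r : F, x = p • u₀ + r • H u₀ := fun x => by
    have htop : Submodule.span F (Set.range ![u₀, H u₀]) = ⊤ :=
      hli.span_eq_top_of_card_eq_finrank (by simp [hα])
    obtain ⟨c, hc⟩ := (Submodule.mem_span_range_iff_exists_fun F).1 (htop ▸ Submodule.mem_top (x := x))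
    exact ⟨c 0, c 1, by rw [← hc, Fin.sum_univ_two]; rfl⟩
  obtain ⟨a, b, hab⟩ := hcomb (H (H u₀))
  -- the coefficients are fixed
  have key : (a - τ a) • u₀ + (b - τ b) • H u₀ = 0 := by
    refine hτ.eq_zero_of_forall fun x => ?_
    suffices h : hd τ ((a - τ a) • u₀ + (b - τ b) • H u₀) u₀ = 0 ∧
        hd τ ((a - τ a) • u₀ + (b - τ b) • H u₀) (H u₀) = 0 by
      obtain ⟨p, r, rfl⟩ := hcomb x
      rw [hd_add_right, hd_smul_right, hd_smul_right, h.1, h.2, mul_zero, mul_zero, add_zero]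
    set h₀ := hd τ u₀ u₀ with hh₀
    set h₁ := hd τ (H u₀) u₀ with hh₁
    set h₂ := hd τ (H u₀) (H u₀) with hh₂
    have f₀ : τ h₀ = h₀ := hτ.self_fixed _
    have f₁ : τ h₁ = h₁ := by rw [hh₁, hτ.hd_conj]; exact (hherm _ _).symm
    have f₂ : τ h₂ = h₂ := hτ.self_fixed _
    have e₂ : h₂ = a * h₀ + b * h₁ := by
      rw [hh₂, ← hherm (H u₀) u₀, hab, hd_add_left, hd_smul_left, hd_smul_left]
    have e₃ : hd τ (H (H u₀)) (H u₀) = a * h₁ + b * h₂ := by
      rw [hab, hd_add_left, hd_smul_left, hd_smul_left, hh₁, ← hherm u₀ u₀]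
    have f₃ : τ (a * h₁ + b * h₂) = a * h₁ + b * h₂ := by rw [← e₃, hτ.hd_conj, ← hherm]
    have g₂ := congrArg τ e₂
    simp only [map_add, map_mul, f₀, f₁, f₂] at f₃ g₂
    constructor
    · simp only [hd_add_left, hd_smul_left, ← hh₀, ← hh₁]
      linear_combination g₂ - e₂
    · simp only [hd_add_left, hd_smul_left, ← hherm u₀ u₀, ← hh₁, ← hh₂]
      linear_combination -f₃
  obtain ⟨ka, kb⟩ := LinearIndependent.pair_iff.1 hli _ _ key
  obtain ⟨m, hm⟩ := hτ.exists_root_quadratic (sub_eq_zero.1 ka).symm (sub_eq_zero.1 kb).symm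
  refine ⟨H u₀ - m • u₀, ε⁻¹ * (b - m), fun e => ?_, ?_⟩
  · obtain ⟨-, h1⟩ := LinearIndependent.pair_iff.1 hli (-m) 1 (by rw [neg_smul, one_smul, neg_add_eq_sub, e])
    exact one_ne_zero h1
  have hHu : H (H u₀ - m • u₀) = (b - m) • (H u₀ - m • u₀) := by
    rw [map_sub, map_smul, hab]
    match_scalars
    · linear_combination -hm
    · ring
  calc S (H u₀ - m • u₀) = ε⁻¹ • H (H u₀ - m • u₀) := by
        simp only [hH, LinearMap.smul_apply, inv_smul_smul₀ hε0]
    _ = _ := by rw [hHu, smul_smul]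

/-- Every non-singular vector is a combination of two singular ones. -/
theorem Conj.exists_sum_two_three (hτ : Conj τ) (hβ : Fintype.card β = 3) (v : β → F) :
    ∃ (a b : β → F) (r : F), hd τ a a = 0 ∧ hd τ b b = 0 ∧ v = a + r • b := by
  by_cases hv : hd τ v v = 0
  · exact ⟨v, 0, 0, hv, hd_zero_left _, by simp⟩
  obtain ⟨b, hb, hvb⟩ : ∃ b, hd τ b b = 0 ∧ hd τ v b ≠ 0 := by
    by_contra hcon
    push Not at hcon
    obtain ⟨w, hw0, hw, -⟩ := hτ.exists_isotropic_perp (fun i : Fin 0 => (0 : β → F)) (by omega)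
    obtain ⟨w', k, hfr⟩ := hτ.exists_frame hβ hw0 hw
    obtain ⟨c, hc⟩ := hτ.exists_trace (c := -hd τ k k) (by rw [map_neg, hτ.self_fixed])
    have h1 := hcon (w' + k + c • w) (by
      simp only [hd_add_left, hd_add_right, hd_smul_left, hd_smul_right, hfr.iso, hfr.iso', hfr.pair, hfr.pair',
        hfr.kw, hfr.kw', hfr.wk, hfr.wk', mul_zero, mul_one, add_zero, zero_add]
      linear_combination hc)
    rw [hd_add_right, hd_add_right, hd_smul_right, hcon w hfr.iso, hcon w' hfr.iso', mul_zero, add_zero, zero_add] at h1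
    refine hv ?_
    conv_lhs => arg 2; rw [hfr.eq_comb hτ hβ v]
    rw [hcon w hfr.iso, hcon w' hfr.iso', h1, zero_smul, zero_smul, zero_div, zero_smul, add_zero, add_zero,
      hd_zero_left]
  obtain ⟨l, hl⟩ := hτ.exists_trace (c := hd τ v v) (hτ.self_fixed v)
  refine ⟨v - τ (l / hd τ v b) • b, b, τ (l / hd τ v b), ?_, hb, (sub_add_cancel _ _).symm⟩
  simp only [hd_sub_left, hd_sub_right, hd_smul_left, hd_smul_right, hb, hτ.invol, mul_zero, sub_zero,
    ← hτ.hd_conj v b]
  rw [div_mul_cancel₀ _ hvb, ← map_mul, div_mul_cancel₀ _ hvb]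
  linear_combination -hl

/-- A map sending singular lines into lines respects the factorisation. -/
theorem factor_of_singular_three (hτ : Conj τ) (hβ : Fintype.card β = 3) (hα : 0 < Fintype.card α)
    (g : (Module.End F VV)ˣ)
    (h : ∀ w : β → F, w ≠ 0 → hd τ w w = 0 → ∃ w', w' ≠ 0 ∧ (line (α := α) w).map (g : Module.End F VV) ≤ line w') :
    Factor (g : Module.End F VV) := by
  refine factor_of_lines hα g fun v hv0 => ?_
  by_cases hv : hd τ v v = 0
  · exact h v hv0 hv
  obtain ⟨a, b, r, ha, hb, rfl⟩ := hτ.exists_sum_two_three hβ v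
  have hb0 : b ≠ 0 := fun e => hv (by rw [e, smul_zero, add_zero]; exact ha)
  have ha0 : a ≠ 0 := fun e => hv (by rw [e, zero_add, hd_smul_left, hd_smul_right, hb, mul_zero, mul_zero])
  have hab : a ∉ F ∙ b := fun hm => by
    obtain ⟨t, rfl⟩ := Submodule.mem_span_singleton.1 hm
    exact hv (by rw [← add_smul, hd_smul_left, hd_smul_right, hb, mul_zero, mul_zero])
  obtain ⟨k, hk, hc⟩ := CfsgLib.Maximal.un_iso_comb hτ.isUnitaryForm ha hb
  obtain ⟨ba, hba, hA⟩ := h a ha0 ha
  obtain ⟨bb, hbb, hB⟩ := h b hb0 hb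
  obtain ⟨bc, -, hC⟩ := h (a + k • b) (fun e => hab (Submodule.mem_span_singleton.2 ⟨-k, by
    rw [neg_smul]; exact (eq_neg_of_add_eq_zero_left e).symm⟩)) hc
  exact line_of_three hα g hk hab hba hbb hA hB hC

/-- A phase whose cube is not one. -/
theorem Conj.exists_phase_cube (hτ : Conj τ) {s : F} (hs : τ s = s) (hs0 : s ≠ 0) (hs1 : s ≠ 1) :
    ∃ ζ : F, ζ * τ ζ = 1 ∧ ζ ^ 3 ≠ 1 := by
  obtain ⟨x, hx⟩ : ∃ x : F, τ x ^ 3 ≠ x ^ 3 := by
    by_contra hcon
    push Not at hcon
    refine hτ.ne (RingEquiv.ext fun x => ?_)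
    show τ x = x
    have h0 := hcon x
    have h1 := hcon (x + 1)
    have h2 := hcon (x + s)
    rw [map_add, map_one] at h1
    rw [map_add, hs] at h2
    by_cases h3 : (3 : F) = 0
    · have h4 : (τ x - x) ^ 3 = 0 := by linear_combination h0 - τ x * x * (τ x - x) * h3
      exact sub_eq_zero.1 (eq_zero_of_pow_eq_zero h4)
    · have h5 : 3 * ((τ x + x + 1) * (τ x - x)) = 0 := by linear_combination h1 - h0
      have h6 : 3 * s * ((τ x + x + s) * (τ x - x)) = 0 := by linear_combination h2 - h0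
      have h5' := (mul_eq_zero.1 h5).resolve_left h3
      have h6' := (mul_eq_zero.1 h6).resolve_left (mul_ne_zero h3 hs0)
      have h7 : (s - 1) * (τ x - x) = 0 := by linear_combination h6' - h5'
      exact sub_eq_zero.1 ((mul_eq_zero.1 h7).resolve_left (sub_ne_zero.2 hs1))
  have hx0 : x ≠ 0 := fun e => hx (by rw [e, map_zero])
  have hx0' : τ x ≠ 0 := by simpa using hx0
  refine ⟨x / τ x, ?_, fun e => hx ?_⟩
  · rw [map_div₀, hτ.invol]
    field_simp
  · rw [div_pow, div_eq_one_iff_eq (pow_ne_zero _ hx0')] at e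
    exact e.symm

namespace UBase

variable {M : Subgroup (Module.End F (Matrix α β F))ˣ}

/-- An element not respecting the factorisation gives a radical element. -/
theorem nonRoot_three (hM : UBase τ M) (hα : Fintype.card α = 2) (hβ : Fintype.card β = 3) {s : F} (hs : τ s = s)
    (hs0 : s ≠ 0) (hs1 : s ≠ 1) {g : (Module.End F VV)ˣ} (hg : g ∈ M) (hn : ¬ Factor (g : Module.End F VV)) :
    NonRootU τ M := by
  by_contra hN
  have hτ := hM.conj
  set gi := ((g⁻¹ : (Module.End F VV)ˣ) : Module.End F VV) with hgi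
  obtain ⟨w, hw0, hw, hnl⟩ : ∃ w : β → F, w ≠ 0 ∧ hd τ w w = 0 ∧ NL τ (g : Module.End F VV) w := by
    by_contra hcon
    push Not at hcon
    refine hn (factor_of_singular_three hτ hβ (by omega) g fun v hv0 hv => ?_)
    have h := hcon v hv0 hv
    simp only [NL, not_forall, not_not] at h
    obtain ⟨r, -, he⟩ := h
    refine ⟨r, fun e => ?_, he.le⟩
    have h1 := finrank_map_line g hv0 (α := α)
    rw [he, e, line_zero, finrank_bot] at h1
    omega
  obtain ⟨ε, hε0, hε⟩ := hτ.exists_skew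
  -- no image of a vector of the line is orthogonal to a singular line
  have hopp : ∀ v : β → F, v ≠ 0 → hd τ v v = 0 → ∀ a, ct τ v ((g : Module.End F VV) (inj w a)) = 0 → a = 0 := by
    intro v hv0 hv a ha
    by_contra ha0
    have hne := hnl v hv
    by_cases hΛ : ∀ a, ct τ v ((g : Module.End F VV) (inj w a)) = 0
    · exact hN (hM.nonRoot_of_perp_three hβ hg hw0 hw hv0 hv hne hΛ)
    push Not at hΛ
    obtain ⟨a₁, ha₁⟩ := hΛ
    set C : Module.End F VV := gi * (inj v ∘ₗ (ε • ct τ v)) * (g : Module.End F VV) with hC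
    obtain ⟨x, hx, ex⟩ : Mem M C := by
      have h := (hM.mem_rt hv hε).conj (inv_mem hg)
      rwa [inv_inv] at h
    have hCw : ∀ b, C (inj w b) = gi (inj v (ε • ct τ v ((g : Module.End F VV) (inj w b)))) := fun b => rfl
    by_cases hst : C (inj w a₁) ∈ line (α := α) w
    · obtain ⟨a₂, ha₂⟩ := hst
      refine hN (hM.nonRoot_of_meet hα hβ hg hw hv0 hv hs hs0 hs1 hw0 hne (b := a₂)
        (d := ε • ct τ v ((g : Module.End F VV) (inj w a₁))) (smul_ne_zero hε0 ha₁) ?_)
      rw [ha₂, hCw, hgi, apply_inv_apply]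
    · refine hN (hM.nonRoot_of_meet hα hβ hx hw hw0 hw hs hs0 hs1 hw0 (fun h => hst ?_) (b := a) (d := a) ha0 ?_)
      · have h1 : (x : Module.End F VV) (inj w a₁) ∈ line (α := α) w :=
          h ▸ Submodule.mem_map_of_mem (inj_mem_line _ _)
        rw [ex, LinearMap.add_apply, Module.End.one_apply] at h1
        simpa using sub_mem h1 (inj_mem_line (α := α) w a₁)
      · rw [ex, LinearMap.add_apply, Module.End.one_apply, hCw, ha, smul_zero, map_zero, map_zero, add_zero]
  -- a vector orthogonal to the rows of one image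
  obtain ⟨i₀⟩ : Nonempty α := Fintype.card_pos_iff.1 (by omega)
  set a₀ : α → F := Pi.single i₀ 1 with ha₀
  have ha₀0 : a₀ ≠ 0 := fun e => by simpa [ha₀] using congrFun e i₀
  set T₀ : VV := (g : Module.End F VV) (inj w a₀) with hT₀
  obtain ⟨eq2⟩ : Nonempty (Fin 2 ≃ α) := ⟨(Fintype.equivFinOfCardEq hα).symm⟩
  obtain ⟨k, hk, hk0⟩ := (perp τ fun i => T₀ (eq2 i)).exists_mem_ne_zero_of_ne_bot fun e => by
    have h := le_finrank_perp (τ := τ) fun i => T₀ (eq2 i)
    rw [e, finrank_bot] at h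
    omega
  have hkT : ct τ k T₀ = 0 := funext fun i => by
    rw [ct_apply, Pi.zero_apply, ← eq2.apply_symm_apply i]
    exact hτ.hd_symm_zero (mem_perp.1 hk _)
  have hkk : hd τ k k ≠ 0 := fun h => ha₀0 (hopp k hk0 h a₀ hkT)
  obtain ⟨v, hv0, hv, hvk'⟩ := hτ.exists_isotropic_perp ![k] (by omega)
  have hvk : hd τ v k = 0 := hvk' 0
  obtain ⟨ζ, hζ, hζ3⟩ := hτ.exists_phase_cube hs hs0 hs1
  have hζ0 : ζ ≠ 0 := left_ne_zero_of_mul (hζ.symm ▸ one_ne_zero)
  set ω := (ζ ^ 3)⁻¹ with hω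
  set B : Matrix β β F := ζ • (qr τ k ((ω - 1) / hd τ k k))ᵀ with hB
  have hQ : IsIso τ (qr τ k ((ω - 1) / hd τ k k)) := isIso_qr hτ (by
    have hωω : ω * τ ω = 1 := by rw [hω, map_inv₀, map_pow, ← mul_inv, ← mul_pow, hζ, one_pow, inv_one]
    rw [map_div₀, map_sub, map_one, hτ.self_fixed]
    field_simp
    linear_combination hωω)
  have hrow : ∀ r : β → F, r ᵥ* B = ζ • r + (ζ * ((ω - 1) / hd τ k k * hd τ r k)) • k := fun r => by
    rw [hB, Matrix.vecMul_smul, Matrix.vecMul_transpose, qr_mulVec, smul_add, smul_smul]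
  obtain ⟨bm, hbm, ebm⟩ := hM.right B (fun r r' => by
    rw [hB, Matrix.vecMul_smul, Matrix.vecMul_smul, Matrix.vecMul_transpose, Matrix.vecMul_transpose, hd_smul_left,
      hd_smul_right, hQ, ← mul_assoc, hζ, one_mul]) (by
    rw [hB, Matrix.det_smul, Matrix.det_transpose, det_qr, hβ, div_mul_cancel₀ _ hkk, add_sub_cancel, hω,
      mul_inv_cancel₀ (pow_ne_zero _ hζ0), one_pow])
  have hbT : ∀ T : VV, (bm : Module.End F VV) T = ζ • T + (ζ * ((ω - 1) / hd τ k k)) • inj k (ct τ k T) := fun T => by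
    rw [ebm, mulR_apply]
    funext i
    rw [show (T * B) i = T i ᵥ* B from rfl, hrow]
    funext j
    simp [inj_apply, Matrix.vecMulVec_apply, ct_apply]
    ring
  have hδ : ζ * ((ω - 1) / hd τ k k) ≠ 0 := mul_ne_zero hζ0 (div_ne_zero (sub_ne_zero.2 fun e => hζ3 (by
    rw [hω, inv_eq_one] at e; exact e)) hkk)
  set y := g⁻¹ * bm * g with hy
  have hym : y ∈ M := mul_mem (mul_mem (inv_mem hg) hbm) hg
  have hyv : ∀ T, (y : Module.End F VV) T = gi ((bm : Module.End F VV) ((g : Module.End F VV) T)) := fun T => rfl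
  have hyst : (line (α := α) w).map (y : Module.End F VV) = line w := by
    by_contra hne
    refine hN (hM.nonRoot_of_meet hα hβ hym hw hw0 hw hs hs0 hs1 hw0 hne (b := a₀) (d := ζ • a₀)
      (smul_ne_zero hζ0 ha₀0) ?_)
    rw [hyv, ← hT₀, hbT, hkT, map_zero, smul_zero, add_zero, map_smul, hT₀, hgi, inv_apply_apply, ← map_smul]
  -- all images lie in the hyperbolic plane
  have hLk : ∀ a, ct τ k ((g : Module.End F VV) (inj w a)) = 0 := by
    intro a
    obtain ⟨a', ha'⟩ : (y : Module.End F VV) (inj w a) ∈ line (α := α) w :=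
      hyst ▸ Submodule.mem_map_of_mem (inj_mem_line _ _)
    have h1 : (g : Module.End F VV) (inj w a') = (bm : Module.End F VV) ((g : Module.End F VV) (inj w a)) := by
      rw [ha', hyv, hgi, apply_inv_apply]
    rw [hbT] at h1
    have h2 : (ζ * ((ω - 1) / hd τ k k)) • (inj k (ct τ k ((g : Module.End F VV) (inj w a))) : VV) =
        (g : Module.End F VV) (inj w (a' - ζ • a)) := by
      rw [map_sub, map_smul, map_sub, map_smul, h1, add_sub_cancel_left]
    have h3 := hopp v hv0 hv (a' - ζ • a) (by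
      rw [← h2, map_smul, ct_inj, hτ.hd_symm_zero hvk, zero_smul, smul_zero])
    rw [h3, map_zero, map_zero, smul_eq_zero] at h2
    exact inj_injective hk0 ((h2.resolve_left hδ).trans (map_zero _).symm)
  obtain ⟨v', hv'k, hv'v, hv'⟩ : ∃ v', hd τ v' k = 0 ∧ hd τ v' v = 1 ∧ hd τ v' v' = 0 := by
    have hli : LinearIndependent F ![k, v] := (LinearIndependent.pair_iff' hk0).2 fun c hc => by
      have hc0 : c ≠ 0 := fun e => hv0 (by rw [← hc, e, zero_smul])
      rw [← hc, hd_smul_left] at hvk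
      exact hkk ((mul_eq_zero.1 hvk).resolve_left hc0)
    obtain ⟨z, hzk, hzv, hzz⟩ := hτ.exists_pair_prescribed (by omega : 3 ≤ Fintype.card β) hli (p₀ := 0) (p₁ := 1)
      (p₁' := s) (ν := 0) (map_zero τ) (Ne.symm hs1) (Or.inr hkk)
    have hp : hd τ z v ≠ 0 := by rcases hzv with h | h <;> rw [h] <;> [exact one_ne_zero; exact hs0]
    refine ⟨(hd τ z v)⁻¹ • z, ?_, ?_, ?_⟩
    · rw [hd_smul_left, hzk, mul_zero]
    · rw [hd_smul_left, inv_mul_cancel₀ hp]
    · rw [hd_smul_left, hd_smul_right, hzz, mul_zero, mul_zero]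
  have hfr : Frame τ v v' k := ⟨hv, hv', by rw [← hτ.hd_conj, hv'v, map_one], hv'v, hτ.hd_symm_zero hvk,
    hτ.hd_symm_zero hv'k, hvk, hv'k, hkk⟩
  set Λ : (α → F) →ₗ[F] (α → F) := ct τ v ∘ₗ (g : Module.End F VV) ∘ₗ inj w with hΛ
  have hΛinj : Function.Injective Λ := (injective_iff_map_eq_zero Λ).2 fun a ha => hopp v hv0 hv a ha
  let eΛ : (α → F) ≃ₗ[F] (α → F) := LinearEquiv.ofBijective Λ
    ⟨hΛinj, LinearMap.injective_iff_surjective.1 hΛinj⟩
  set S : (α → F) →ₗ[F] (α → F) := ct τ v' ∘ₗ (g : Module.End F VV) ∘ₗ inj w ∘ₗ eΛ.symm.toLinearMap with hS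
  have hTu : ∀ u, (g : Module.End F VV) (inj w (eΛ.symm u)) = inj v (S u) + inj v' u := fun u => by
    have h1 : ct τ v ((g : Module.End F VV) (inj w (eΛ.symm u))) = u := eΛ.apply_symm_apply u
    conv_lhs => rw [hfr.eq_comb_ten hτ hβ ((g : Module.End F VV) (inj w (eΛ.symm u))), h1, hLk, smul_zero, map_zero,
      add_zero]
    rfl
  have hskew : ∀ u u', hd τ (S u) u' + hd τ u (S u') = 0 := fun u u' => by
    have h := hM.iso g hg (inj w (eΛ.symm u)) (inj w (eΛ.symm u'))
    rw [th_inj_left hτ (T := inj w (eΛ.symm u')), ct_inj, hw, zero_smul, hd_zero_right, hTu, hTu, th_add_left,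
      th_inj_left hτ, th_inj_left hτ, map_add, map_add, ct_inj, ct_inj, ct_inj, ct_inj, hfr.iso, hfr.iso', hfr.pair,
      hfr.pair', zero_smul, zero_smul, one_smul, one_smul, zero_add, add_zero] at h
    exact h
  obtain ⟨u, σ, hu0, hu⟩ := hτ.exists_eigen hα S hskew
  obtain ⟨x, hx⟩ := hτ.exists_norm (c := (σ + τ σ) / hd τ k k) (by
    rw [map_div₀, map_add, hτ.invol, hτ.self_fixed, add_comm])
  rw [eq_div_iff hkk] at hx
  set r := v' + x • k + (-τ σ) • v with hr
  have hrr : hd τ r r = 0 := by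
    simp only [hr, hd_add_left, hd_add_right, hd_smul_left, hd_smul_right, hfr.iso, hfr.iso', hfr.pair, hfr.pair',
      hfr.kw, hfr.kw', hfr.wk, hfr.wk', mul_zero, mul_one, add_zero, zero_add, map_neg, hτ.invol]
    linear_combination hx
  have hr0 : r ≠ 0 := fun e => by
    have h := congrArg (fun z => hd τ z v) e
    simp only [hr, hd_add_left, hd_smul_left, hfr.pair', hfr.kw, hfr.iso, mul_zero, add_zero, hd_zero_left] at h
    exact one_ne_zero h
  have h := hopp r hr0 hrr (eΛ.symm u) (by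
    rw [hTu, map_add, ct_inj, ct_inj, hu, hr]
    simp only [hd_add_right, hd_smul_right, hfr.iso, hfr.pair, hfr.wk, hfr.iso', hfr.wk', hfr.pair', mul_zero,
      mul_one, add_zero, zero_add, map_neg, hτ.invol, one_smul, smul_smul, ← add_smul]
    rw [one_mul, add_neg_cancel, zero_smul])
  exact hu0 (by simpa using h)

end UBase

end CfsgLib.TensorMax.Unitary
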