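import Cfsg.Agent.Lib.TensorMax.Unitary.Main
import Cfsg.Agent.Lib.TensorMax.Unitary.TwoThree.Moved

/-!
The stabiliser of a plane tensor a three-space is maximal in the special unitary group.
-/

set_option autoImplicit false

namespace CfsgLib.TensorMax.Unitary

open scoped Matrix Kronecker
open CfsgLib.FieldMax (Mem map_unit_inj inv_apply_apply apply_inv_apply)
open CfsgLib.Maximal (tv tv_val tv_mulVec mem_specialLinear_iff fvec suGL UFull)

variable {F : Type*} [Field F] [Fintype F] {n q n₁ n₂ : ℕ}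

local notation "hh" => Cfsg.hermForm n F q
local notation "MM" => Matrix (Fin n) (Fin n) F
local notation "WW" => Matrix (Fin n₁) (Fin n₂) F

/-- A group containing the special part of the stabiliser and one more element contains the special unitary group. -/
theorem suGL_le_of_tensor_six {τ : F ≃+* F} (hf : Cfsg.Geo.IsUnitaryForm τ hh) (hF : Fintype.card F = q ^ 2) (hn : 6 ≤ n)
    (e : Fin n ≃ Fin n₁ × Fin n₂) (P : GL (Fin n) F) (hform : ∀ u v, hh u v = th τ (coord e P u) (coord e P v))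
    (h1 : n₁ = 2) (h2 : n₂ = 3) (hbig : ∃ s : F, τ s = s ∧ s ≠ 0 ∧ s ≠ 1)
    {M : Subgroup (GL (Fin n) F)} (hM : Cfsg.Geo.tensorProductSubgroup n₁ n₂ e P ⊓ suGL n F q ≤ M)
    (hMS : M ≤ suGL n F q) {g : GL (Fin n) F} (hg : g ∈ M) (hgn : g ∉ Cfsg.Geo.tensorProductSubgroup n₁ n₂ e P) :
    suGL n F q ≤ M := by
  have hτ : Conj τ := ⟨hf.ne_refl, hf.involutive⟩
  obtain ⟨s, hs, hs0, hs1⟩ := hbig
  have hkron : ∀ (u : GL (Fin n) F) (a : GL (Fin n₁) F) (b : GL (Fin n₂) F),
      (u : MM) = (P : MM) * ((a : Matrix (Fin n₁) (Fin n₁) F) ⊗ₖ (b : Matrix (Fin n₂) (Fin n₂) F)).submatrix e e *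
        ((P⁻¹ : GL (Fin n) F) : MM) → u ∈ Cfsg.Geo.tensorProductSubgroup n₁ n₂ e P := by
    intro u a b hu
    refine ⟨Cfsg.Geo.glReindex e.symm (Matrix.GeneralLinearGroup.mkOfDetNeZero ((a : Matrix (Fin n₁) (Fin n₁) F) ⊗ₖ (b : Matrix (Fin n₂) (Fin n₂) F)) ?_),
      ⟨_, ⟨a, b, rfl⟩, rfl⟩, Units.ext ?_⟩
    · rw [Matrix.det_kronecker]
      exact mul_ne_zero (pow_ne_zero _ a.det_ne_zero) (pow_ne_zero _ b.det_ne_zero)
    · rw [hu]; rfl
  have hfac : ∀ (A : Matrix (Fin n₁) (Fin n₁) F) (B : Matrix (Fin n₂) (Fin n₂) F), A.det ^ n₂ * B.det ^ n₁ = 1 →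
      (∀ S T : WW, th τ (A * S * B) (A * T * B) = th τ S T) →
      ∃ u ∈ M.map (coordHom e P), ∀ T : WW, (u : Module.End F WW) T = A * T * B := by
    intro A B hd hiso
    have hA : A.det ≠ 0 := fun h => by rw [h, zero_pow (by omega), zero_mul] at hd; exact zero_ne_one hd
    have hB : B.det ≠ 0 := fun h => by rw [h, zero_pow (by omega), mul_zero] at hd; exact zero_ne_one hd
    set K := (P : MM) * (A ⊗ₖ Bᵀ).submatrix e e * ((P⁻¹ : GL (Fin n) F) : MM) with hK
    have hdet : K.det = 1 := by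
      rw [hK, Matrix.det_mul, Matrix.det_mul, Matrix.det_submatrix_equiv_self, Matrix.det_kronecker,
        Matrix.det_transpose, Fintype.card_fin, Fintype.card_fin, hd, mul_one, ← Matrix.det_mul, Units.mul_inv,
        Matrix.det_one]
    let u : GL (Fin n) F := Matrix.GeneralLinearGroup.mkOfDetNeZero K (by rw [hdet]; exact one_ne_zero)
    refine ⟨coordHom e P u, Subgroup.mem_map_of_mem _ (hM ⟨?_, ⟨(CfsgLib.Maximal.mem_GU_iff u).2 fun x y => ?_,
      (mem_specialLinear_iff _).2 hdet⟩⟩), fun T => ?_⟩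
    · exact hkron u (Matrix.GeneralLinearGroup.mkOfDetNeZero A hA)
        (Matrix.GeneralLinearGroup.mkOfDetNeZero Bᵀ (by rw [Matrix.det_transpose]; exact hB)) rfl
    · rw [hform, hform, show (u : MM) = K from rfl, hK, coord_kron, coord_kron, hiso]
    · obtain ⟨v, rfl⟩ := (coord e P).surjective T
      rw [coordHom_coord]
      exact coord_kron e P A B v
  have hU : UBase τ (M.map (coordHom e P)) := by
    refine ⟨hτ, ?_, fun A hA hA1 => ?_, fun B hB hB1 => ?_, by simp; omega⟩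
    · rintro _ ⟨x, hx, rfl⟩ S T
      obtain ⟨u, rfl⟩ := (coord e P).surjective S
      obtain ⟨v, rfl⟩ := (coord e P).surjective T
      rw [coordHom_coord, coordHom_coord, ← hform, ← hform]
      exact (CfsgLib.Maximal.mem_GU_iff x).1 (hMS hx).1 u v
    · obtain ⟨u, hu, e'⟩ := hfac A 1 (by rw [hA1, Matrix.det_one, one_pow, one_pow, one_mul])
        (fun S T => by rw [Matrix.mul_one, Matrix.mul_one, th_mulL_iso hτ hA])
      exact ⟨u, hu, LinearMap.ext fun T => by rw [e', Matrix.mul_one, mulL_apply]⟩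
    · obtain ⟨u, hu, e'⟩ := hfac 1 B (by rw [Matrix.det_one, one_pow, one_mul]; simpa using hB1)
        (fun S T => by rw [Matrix.one_mul, Matrix.one_mul, th_mulR hB])
      exact ⟨u, hu, LinearMap.ext fun T => by rw [e', Matrix.one_mul, mulR_apply]⟩
  have hnf : ¬ Factor (coordHom e P g : Module.End F WW) := by
    rintro ⟨A, B, hAB⟩
    have he : (g : MM) = (P : MM) * (A ⊗ₖ Bᵀ).submatrix e e * ((P⁻¹ : GL (Fin n) F) : MM) :=
      eq_of_coord e P fun v => by rw [← coordHom_coord, hAB, coord_kron]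
    have hd := g.det_ne_zero
    rw [he, Matrix.det_mul, Matrix.det_mul, Matrix.det_submatrix_equiv_self, Matrix.det_kronecker,
      Matrix.det_transpose] at hd
    have hd' := right_ne_zero_of_mul (left_ne_zero_of_mul hd)
    refine hgn (hkron g (Matrix.GeneralLinearGroup.mkOfDetNeZero A fun h0 => hd' ?_)
      (Matrix.GeneralLinearGroup.mkOfDetNeZero Bᵀ fun h0 => hd' ?_) he)
    · rw [h0, zero_pow (by simp; omega), zero_mul]
    · rw [Matrix.det_transpose] at h0
      rw [h0, zero_pow (by simp; omega), mul_zero]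
  have hN : NonRootU τ (M.map (coordHom e P)) :=
    hU.nonRoot_three (by simpa using h1) (by simpa using h2) hs hs0 hs1 (Subgroup.mem_map_of_mem (coordHom e P) hg) hnf
  refine CfsgLib.Maximal.suGL_le_of_full hf hF (by omega) fun v hv k hk => ?_
  have h0 : fvec hh v ⬝ᵥ (k • v) = 0 := CfsgLib.Maximal.un_tv_dot hf hv k
  refine ⟨h0, ?_⟩
  obtain ⟨_, ⟨x, hx, rfl⟩, ex⟩ := hU.full_all_three (by simpa using h1) (by simp; omega) hs hs0 hs1 hN (T := coord e P v) (by rw [← hform, hv]) k hk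
  suffices heq : tv (k • v) (fvec hh v) h0 = x by rw [heq]; exact hx
  refine Units.ext (CfsgLib.Geometry.matrix_eq_of_mulVec fun m => ?_)
  refine (coord e P).injective ?_
  rw [← coordHom_coord e P x, ex, tv_mulVec, CfsgLib.Maximal.un_dot hf, map_add, map_smul, map_smul, smul_smul,
    LinearMap.add_apply, Module.End.one_apply, trv_apply, hform, mul_comm]

/-- The stabiliser of a tensor decomposition into Hermitian spaces is maximal. -/
theorem tensor_unitary_two_three (hF : Fintype.card F = q ^ 2) (hn : 6 ≤ n) (h1 : n₁ = 2) (h2 : n₂ = 3)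
    (hq : 3 ≤ q) (e : Fin n ≃ Fin n₁ × Fin n₂) (P : GL (Fin n) F)
    {f₁ : (Fin n₁ → F) → (Fin n₁ → F) → F} {f₂ : (Fin n₂ → F) → (Fin n₂ → F) → F}
    (hf₁ : Cfsg.Geo.IsUnitaryFormPow q f₁) (hf₂ : Cfsg.Geo.IsUnitaryFormPow q f₂)
    (hT : Cfsg.Geo.IsTensorFormStructure (fun x : F => x ^ q) hh f₁ f₂ e P) :
    Cfsg.Geo.IsMaximalIn (suGL n F q) (Cfsg.Geo.tensorProductSubgroup n₁ n₂ e P ⊓ suGL n F q) := by
  obtain ⟨τ, hpow, hf⟩ := CfsgLib.Maximal.exists_hermSigma hF n
  have hτ : Conj τ := ⟨hf.ne_refl, hf.involutive⟩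
  obtain ⟨P', hP', hform⟩ := exists_frame hpow hf e P (by omega) (by omega) hf₁ hf₂ hT
  rw [← hP']
  have hbig : ∃ s : F, τ s = s ∧ s ≠ 0 ∧ s ≠ 1 := by
    by_contra hfix
    push Not at hfix
    have hone : ∀ x : Fˣ, x ^ (q + 1) = 1 := fun x => Units.ext (by
      have h := hfix ((x : F) * τ x) (by rw [map_mul, hf.involutive, mul_comm]) (mul_ne_zero x.ne_zero (by simp))
      rw [hpow, ← pow_succ'] at h
      simpa using h)
    have hdvd := (FiniteField.forall_pow_eq_one_iff F (q + 1)).1 hone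
    rw [hF] at hdvd
    have : 3 * q ≤ q ^ 2 := by rw [pow_two]; exact Nat.mul_le_mul_right q (by omega)
    have hle := Nat.le_of_dvd (by omega) hdvd
    omega
  constructor
  · refine lt_of_le_of_ne inf_le_right fun he => ?_
    obtain ⟨w, hw0, hw, -⟩ := hτ.exists_isotropic_perp (fun i : Fin 0 => (0 : Fin n₂ → F)) (by simp; omega)
    set v := (coord e P').symm (inj w (Pi.single ⟨0, by omega⟩ (1 : F)) : WW) with hvd
    have hv0 : v ≠ 0 := fun h => by
      rw [hvd, LinearEquiv.map_eq_zero_iff] at h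
      simpa using congrFun (inj_injective hw0 (h.trans (map_zero _).symm)) ⟨0, by omega⟩
    have hv : hh v v = 0 := by
      rw [hform, hvd, LinearEquiv.apply_symm_apply, th_inj_left hτ, ct_inj, hw, zero_smul, hd_zero_right]
    obtain ⟨k, hk0, hk⟩ := hτ.exists_skew
    refine NotMax.tv_not_tensor h1.ge (by omega) e P' (g := tv (k • v) (fvec hh v) (CfsgLib.Maximal.un_tv_dot hf hv k))
      (smul_ne_zero hk0 hv0) (fun h => hv0 ?_) (fun x => tv_mulVec _ _ _ x) ?_
    · exact CfsgLib.Maximal.un_fvec_injective hf (by rw [h, CfsgLib.Maximal.un_fvec_zero hf])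
    · exact (he.ge (CfsgLib.Maximal.utv_mem_su hf hv hk)).1
  intro M hM hMS
  refine or_iff_not_imp_left.2 fun hne => le_antisymm hMS ?_
  obtain ⟨g, hg, hgn⟩ : ∃ g ∈ M, g ∉ Cfsg.Geo.tensorProductSubgroup n₁ n₂ e P' := by
    by_contra hcon
    push Not at hcon
    exact hne (le_antisymm (fun g hg => ⟨hcon g hg, hMS hg⟩) hM)
  exact suGL_le_of_tensor_six hf hF hn e P' hform h1 h2 hbig hM hMS hg hgn

end CfsgLib.TensorMax.Unitary
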