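import Cfsg.Agent.Lib.TensorMax.Unitary.TwoThree.Basic

/-!
A plane tensor a three-space: a singular line whose image meets a singular line.
-/

set_option autoImplicit false
set_option linter.unusedSectionVars false

namespace CfsgLib.TensorMax.Unitary

open scoped Matrix
open CfsgLib.FieldMax (Mem map_unit_inj inv_apply_apply apply_inv_apply)

variable {F : Type*} [Field F] [Fintype F] {α β : Type} [Fintype α] [Fintype β] [DecidableEq α] [DecidableEq β]

local notation "VV" => Matrix α β F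

variable {τ : F ≃+* F}

theorem hadj_one : hadj τ (1 : Matrix α α F) = 1 := by
  ext i j; simp [hadj_apply, Matrix.one_apply, apply_ite τ, eq_comm (a := i)]

theorem similitude_norm (hτ : Conj τ) {D : Matrix α α F} {c : F} (h : ∀ u, D *ᵥ (hadj τ D *ᵥ u) = c • u)
    (hD : D.det ≠ 0) (u v : α → F) : hd τ (D *ᵥ u) (D *ᵥ v) = c * hd τ u v := by
  obtain ⟨u', rfl⟩ : ∃ u', hadj τ D *ᵥ u' = u := by
    have hd' : (hadj τ D).det ≠ 0 := by
      rw [hadj, Matrix.det_transpose, ← RingEquiv.mapMatrix_apply τ, ← RingEquiv.map_det]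
      simpa using hD
    exact ⟨(hadj τ D)⁻¹ *ᵥ u, by
      rw [Matrix.mulVec_mulVec, Matrix.mul_nonsing_inv _ (isUnit_iff_ne_zero.2 hd'), Matrix.one_mulVec]⟩
  rw [h, hd_smul_left, hd_hadj hτ]

namespace UBase

variable {M : Subgroup (Module.End F (Matrix α β F))ˣ} (hM : UBase τ M) (hα : Fintype.card α = 2)
  (hβ : Fintype.card β = 3) {g : (Module.End F (Matrix α β F))ˣ} (hg : g ∈ M) {w v : β → F} (hw0 : w ≠ 0)
  (hw : hd τ w w = 0) (hv0 : v ≠ 0) (hv : hd τ v v = 0)
  (hne : (line (α := α) w).map (g : Module.End F (Matrix α β F)) ≠ line v)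
  {a e : α → F} (he0 : e ≠ 0) (hz : (g : Module.End F (Matrix α β F)) (inj w a) = inj v e)

include hM hα hβ hg hw0 hw hv0 hv hne he0 hz

/-- Two lines meeting in a point whose first component is singular on one side. -/
theorem nonRoot_of_touch_iso (ha : hd τ a a = 0) : NonRootU τ M := by
  by_contra hN
  have hτ := hM.conj
  set gi := ((g⁻¹ : (Module.End F VV)ˣ) : Module.End F VV) with hgi
  have ha0 : a ≠ 0 := fun h => he0 (inj_injective hv0 (by rw [← hz, h, map_zero, map_zero, map_zero]))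
  obtain ⟨a', ha', haa'⟩ := hτ.exists_partner ha0 ha
  set y0 := ct τ v ((g : Module.End F VV) (inj w a')) with hy0
  have hadj : ∀ T b, hd τ (ct τ w (gi T)) b = th τ T ((g : Module.End F VV) (inj w b)) := fun T b => by
    rw [← th_inj_right hτ, hgi, hM.adj' hg]
  have hy0ne : y0 ≠ 0 := fun h => hN (hM.nonRoot_of_perp_three hβ hg hw0 hw hv0 hv hne fun b => by
    rw [hτ.plane_decomp hα ha ha' haa' b, map_add, map_smul, map_smul, map_add, map_smul, map_smul, map_add, map_smul,
      map_smul, hz, ct_inj, hv, zero_smul, smul_zero, ← hy0, h, smul_zero, add_zero])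
  have hye : hd τ y0 e = 0 := by
    rw [hy0, ← th_inj_right hτ, ← hz, hM.iso g hg, th_inj_right hτ, ct_inj, hw, zero_smul, hd_zero_left]
  -- the conjugated root elements stabilise the second line
  have hperp : ∀ T, th τ T (inj v e) = 0 → ct τ w (gi T) = hd τ (ct τ w (gi T)) a' • a := fun T hT => by
    conv_lhs => rw [hτ.plane_decomp hα ha ha' haa' (ct τ w (gi T)), hadj T a, hz, hT, zero_smul, add_zero]
  obtain ⟨ε, hε0, hε⟩ := hτ.exists_skew
  set C : Module.End F VV := (g : Module.End F VV) * (inj w ∘ₗ (ε • ct τ w)) * gi with hC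
  obtain ⟨x, hx, ex⟩ : Mem M C := (hM.mem_rt hw hε).conj hg
  have hCv : ∀ T, C T = (g : Module.End F VV) (inj w (ε • ct τ w (gi T))) := fun T => rfl
  have hCT : ∀ T, th τ T (inj v e) = 0 → C T = (ε * hd τ (ct τ w (gi T)) a') • (inj v e : VV) := fun T hT => by
    rw [hCv]
    conv_lhs => rw [hperp T hT, smul_smul, map_smul, map_smul, hz]
  have hCline : ∀ u, C (inj v u) = inj v ((ε * hd τ u y0) • e) := fun u => by
    rw [hCT _ (by rw [th_inj_left hτ, ct_inj, hv, zero_smul, hd_zero_right]), hadj, th_inj_left hτ, ← hy0, map_smul]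
  set D : Matrix α α F := 1 + ε • Matrix.vecMulVec e (⇑τ ∘ y0) with hD
  have hDv : ∀ u, D *ᵥ u = u + (ε * hd τ u y0) • e := fun u => by
    rw [hD, Matrix.add_mulVec, Matrix.one_mulVec, Matrix.smul_mulVec, Matrix.vecMulVec_mulVec, op_smul_eq_smul,
      smul_smul, dotProduct_comm]
    rfl
  have hxD : ∀ u, (x : Module.End F VV) (inj v u) = inj v (D *ᵥ u) := fun u => by
    rw [ex, LinearMap.add_apply, Module.End.one_apply, hCline, hDv, map_add]
  obtain ⟨c, hc⟩ := (hM.similitude_of_stab hβ hx hv0 hv D hxD).resolve_left hN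
  have hDdet : D.det ≠ 0 := by
    rw [hD, ← Matrix.smul_vecMulVec, Matrix.vecMulVec_eq Unit, Matrix.det_one_add_replicateCol_mul_replicateRow,
      dotProduct_smul, dotProduct_comm, show e ⬝ᵥ (⇑τ ∘ y0) = hd τ e y0 from rfl, hτ.hd_symm_zero hye, smul_zero,
      add_zero]
    exact one_ne_zero
  have hsim := similitude_norm hτ hc hDdet
  have hDe : D *ᵥ e = e := by rw [hDv, hτ.hd_symm_zero hye, mul_zero, zero_smul, add_zero]
  by_cases hee : hd τ e e = 0
  swap
  · have h1 := hsim e e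
    rw [hDe] at h1
    have hc1 : c = 1 := mul_right_cancel₀ hee (by rw [← h1, one_mul])
    have h2 := hsim y0 y0
    rw [hc1, one_mul, hDv, hd_add_left, hd_add_right, hd_add_right, hd_smul_left, hd_smul_left, hd_smul_right,
      hd_smul_right, hye, hτ.hd_symm_zero hye, mul_zero, mul_zero, zero_add, add_zero, add_eq_left] at h2
    have hyy : hd τ y0 y0 ≠ 0 := fun h0 => hy0ne (by
      have hli : LinearIndependent F ![e, y0] := LinearIndependent.pair_iff.2 fun p q hpq => by
        have h3 := congrArg (fun z => hd τ z e) hpq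
        simp only [hd_add_left, hd_smul_left, hye, hd_zero_left, mul_zero, add_zero, mul_eq_zero, hee, or_false] at h3
        rw [h3, zero_smul, zero_add] at hpq
        exact ⟨h3, (smul_eq_zero.1 hpq).resolve_right hy0ne⟩
      have hbot : perp τ ![e, y0] = ⊥ := Submodule.finrank_eq_zero.1 (by
        have := hτ.finrank_perp hli
        omega)
      refine (Submodule.mem_bot F).1 (hbot ▸ mem_perp.2 fun i => ?_)
      fin_cases i
      exacts [hye, h0])
    have hεy : ε * hd τ y0 y0 ≠ 0 := mul_ne_zero hε0 hyy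
    exact mul_ne_zero hεy (mul_ne_zero (by simpa using hεy) hee) h2
  -- a transvection of the first factor
  obtain ⟨f, hf, hef⟩ := hτ.exists_partner he0 hee
  have hfe : hd τ f e = 1 := by rw [← hτ.hd_conj, hef, map_one]
  set K := hd τ y0 f with hK
  have hy0K : y0 = K • e := by
    conv_lhs => rw [hτ.plane_decomp hα hee hf hef y0, hye, zero_smul, add_zero]
  have hK0 : K ≠ 0 := fun h => hy0ne (by rw [hy0K, h, zero_smul])
  set c₀ := ε * τ K with hc₀
  have hc₀0 : c₀ ≠ 0 := mul_ne_zero hε0 (by simpa using hK0)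
  have hDq : ∀ u, D *ᵥ u = qr τ e c₀ *ᵥ u := fun u => by
    rw [hDv, qr_mulVec, hy0K, hd_smul_right, hc₀, mul_assoc]
  have hskew : c₀ + τ c₀ = 0 := by
    have h1 := hsim e f
    have h2 := hsim f f
    simp only [hDq, qr_mulVec, hd_add_left, hd_add_right, hd_smul_left, hd_smul_right, hee, hf, hef, hfe, mul_zero,
      mul_one, add_zero, zero_add, zero_mul] at h1 h2
    linear_combination h2
  obtain ⟨A, hAm, eA⟩ := hM.left (qr τ e (-c₀)) (isIso_qr hτ (by rw [hee, map_neg]; linear_combination -hskew))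
    (by rw [det_qr, hee, mul_zero, add_zero])
  have hAB : ∀ u, qr τ e (-c₀) *ᵥ (qr τ e c₀ *ᵥ u) = u := fun u => by
    simp only [qr_mulVec, hd_add_left, hd_smul_left, hee, mul_zero, add_zero]
    module
  have hAinj : ∀ (r : β → F) u, (A : Module.End F VV) (inj r u) = inj r (qr τ e (-c₀) *ᵥ u) := fun r u => by
    rw [eA, mulL_apply, inj_apply, inj_apply, Matrix.mul_vecMulVec]
  have hy : ∀ u, ((A * x : (Module.End F VV)ˣ) : Module.End F VV) (inj v u) = inj v u := fun u => by
    rw [Units.val_mul, Module.End.mul_apply, hxD, hAinj, hDq, hAB]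
  obtain ⟨v', k, hfr⟩ := hτ.exists_frame hβ hv0 hv
  obtain ⟨d, hd'⟩ := (hM.quot_scalar hβ hfr (mul_mem hAm hx) hy).resolve_left hN
  have hku : ∀ u, th τ (inj k u) (inj v e : VV) = 0 := fun u => by
    rw [th_inj_left hτ, ct_inj, hfr.wk, zero_smul, hd_zero_right]
  have hq : ∀ u, hd τ k k • (qr τ e (-c₀) *ᵥ u) = d • u := fun u => by
    have h := hd' u
    simp only [LinearMap.comp_apply, Units.val_mul, Module.End.mul_apply, ex, LinearMap.add_apply,
      Module.End.one_apply, hCT _ (hku u), map_add, map_smul, hAinj, ct_inj, hfr.wk, zero_smul, smul_zero,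
      add_zero] at h
    exact h
  have h1 := hq e
  have h2 := hq f
  simp only [qr_mulVec, hee, hfe, mul_zero, zero_smul, add_zero, mul_one, smul_add, smul_smul] at h1 h2
  have hd1 : d = hd τ k k := (smul_left_injective F he0 h1).symm
  rw [hd1, add_eq_left, smul_eq_zero] at h2
  exact mul_ne_zero hfr.kk (neg_ne_zero.2 hc₀0) (h2.resolve_right he0)

/-- Two lines meeting in a point with both first components non-singular. -/
theorem nonRoot_of_touch_aniso {s : F} (hs : τ s = s) (hs0 : s ≠ 0) (hs1 : s ≠ 1) (ha : hd τ a a ≠ 0)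
    (hee : hd τ e e ≠ 0) : NonRootU τ M := by
  by_contra hN
  have hτ := hM.conj
  set gi := ((g⁻¹ : (Module.End F VV)ˣ) : Module.End F VV) with hgi
  have orth : ∀ {p b : α → F}, hd τ p p ≠ 0 → hd τ b p = 0 → b ≠ 0 →
      hd τ b b ≠ 0 ∧ ∀ u, u = (hd τ u p / hd τ p p) • p + (hd τ u b / hd τ b b) • b := by
    intro p b hp hbp hb0
    have hli : LinearIndependent F ![p, b] := LinearIndependent.pair_iff.2 fun x y hxy => by
      have h3 := congrArg (fun z => hd τ z p) hxy
      simp only [hd_add_left, hd_smul_left, hbp, hd_zero_left, mul_zero, add_zero, mul_eq_zero, hp, or_false] at h3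
      rw [h3, zero_smul, zero_add] at hxy
      exact ⟨h3, (smul_eq_zero.1 hxy).resolve_right hb0⟩
    have hbot : perp τ ![p, b] = ⊥ := Submodule.finrank_eq_zero.1 (by
      have := hτ.finrank_perp hli
      omega)
    have hbb : hd τ b b ≠ 0 := fun h0 => hb0 ((Submodule.mem_bot F).1 (hbot ▸ mem_perp.2 fun i => by
      fin_cases i
      exacts [hbp, h0]))
    refine ⟨hbb, fun u => ?_⟩
    rw [← sub_eq_zero]
    refine (Submodule.mem_bot F).1 (hbot ▸ mem_perp.2 fun i => ?_)
    fin_cases i <;> simp [hd_sub_left, hd_add_left, hd_smul_left, hbp, hτ.hd_symm_zero hbp, div_mul_cancel₀ _ hp,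
      div_mul_cancel₀ _ hbb]
  obtain ⟨a', ha'0, ha'a⟩ : ∃ a' : α → F, a' ≠ 0 ∧ hd τ a' a = 0 := by
    obtain ⟨b, hb, hb0⟩ := (perp τ ![a]).exists_mem_ne_zero_of_ne_bot fun h => by
      have h1 := le_finrank_perp (τ := τ) ![a]
      rw [h, finrank_bot] at h1
      omega
    exact ⟨b, hb0, mem_perp.1 hb 0⟩
  obtain ⟨ha'n, ha'dec⟩ := orth ha ha'a ha'0
  set π : VV := (g : Module.End F VV) (inj w a') with hπ
  set y0 := ct τ v π with hy0
  have hadj : ∀ T b, hd τ (ct τ w (gi T)) b = th τ T ((g : Module.End F VV) (inj w b)) := fun T b => by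
    rw [← th_inj_right hτ, hgi, hM.adj' hg]
  have hy0ne : y0 ≠ 0 := fun h => hN (hM.nonRoot_of_perp_three hβ hg hw0 hw hv0 hv hne fun b => by
    rw [ha'dec b, map_add, map_smul, map_smul, map_add, map_smul, map_smul, map_add, map_smul,
      map_smul, hz, ct_inj, hv, zero_smul, smul_zero, ← hπ, ← hy0, h, smul_zero, add_zero])
  have hye : hd τ y0 e = 0 := by
    rw [hy0, hπ, ← th_inj_right hτ, ← hz, hM.iso g hg, th_inj_right hτ, ct_inj, hw, zero_smul, hd_zero_left]
  obtain ⟨hη, hydec⟩ := orth hee hye hy0ne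
  set ℓ : VV := inj v y0 with hℓ
  set γ := hd τ y0 y0 / hd τ a' a' with hγd
  have hγ0 : γ ≠ 0 := div_ne_zero hη ha'n
  have hγf : τ γ = γ := by rw [hγd, map_div₀, hτ.self_fixed, hτ.self_fixed]
  set C : Module.End F VV := (g : Module.End F VV) ∘ₗ inj w ∘ₗ ct τ w ∘ₗ gi with hC
  set C₀ : Module.End F VV := inj v ∘ₗ ct τ v with hC₀
  have hperp : ∀ T, th τ T (inj v e) = 0 → C T = (hd τ (ct τ w (gi T)) a' / hd τ a' a') • π := fun T hT => by
    show (g : Module.End F VV) (inj w (ct τ w (gi T))) = _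
    conv_lhs => rw [ha'dec (ct τ w (gi T)), hadj T a, hz, hT, zero_div, zero_smul, zero_add, map_smul, map_smul]
  have hline : ∀ u, th τ (inj v u) (inj v e : VV) = 0 := fun u => by
    rw [th_inj_left hτ, ct_inj, hv, zero_smul, hd_zero_right]
  have hCℓ : C ℓ = γ • π := by
    rw [hℓ, hperp _ (hline y0), hadj, ← hπ, th_inj_left hτ, ← hy0]
  have hCπ : C π = 0 := by
    show (g : Module.End F VV) (inj w (ct τ w (gi π))) = 0
    rw [hπ, hgi, inv_apply_apply, ct_inj, hw, zero_smul, map_zero, map_zero]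
  have hCz : C (inj v e) = 0 := by
    show (g : Module.End F VV) (inj w (ct τ w (gi (inj v e)))) = 0
    rw [← hz, hgi, inv_apply_apply, ct_inj, hw, zero_smul, map_zero, map_zero]
  have hC0π : C₀ π = ℓ := rfl
  have hC0v : ∀ u, C₀ (inj v u) = 0 := fun u => by
    show inj v (ct τ v (inj v u)) = 0
    rw [ct_inj, hv, zero_smul, map_zero]
  have memC : ∀ r : F, τ r = -r → Mem M (r • C) := fun r hr => by
    convert (hM.mem_rt hw hr).conj hg using 1
    refine LinearMap.ext fun T => ?_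
    simp [hC, hgi, Module.End.mul_apply]
  have memC₀ : ∀ r : F, τ r = -r → Mem M (r • C₀) := fun r hr => by
    convert hM.mem_rt hv hr using 1
    refine LinearMap.ext fun T => ?_
    simp [hC₀]
  have weyl : ∀ r : F, r ≠ 0 → τ r = -r → ∃ u ∈ M, (u : Module.End F VV) ℓ = (r * γ) • π ∧
      (u : Module.End F VV) π = (-(r * γ)⁻¹) • ℓ ∧ ∀ T, C T = 0 → C₀ T = 0 → (u : Module.End F VV) T = T := by
    intro r hr0 hr
    obtain ⟨p, hp, ep⟩ := memC r hr
    obtain ⟨q, hq, eq⟩ := memC₀ (-(r * γ)⁻¹) (by rw [map_neg, map_inv₀, map_mul, hr, hγf, neg_mul, inv_neg, neg_neg])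
    refine ⟨p * q * p, mul_mem (mul_mem hp hq) hp, ?_, ?_, fun T h1 h2 => ?_⟩
    · simp only [Units.val_mul, Module.End.mul_apply, ep, eq, LinearMap.add_apply, Module.End.one_apply,
        LinearMap.smul_apply, map_add, map_smul, hCℓ, hCπ, hC0π, hℓ ▸ hC0v y0, map_zero, smul_zero, add_zero, zero_add]
      match_scalars <;> field_simp <;> ring
    · simp only [Units.val_mul, Module.End.mul_apply, ep, eq, LinearMap.add_apply, Module.End.one_apply,
        LinearMap.smul_apply, map_add, map_smul, hCℓ, hCπ, hC0π, hℓ ▸ hC0v y0, map_zero, smul_zero, add_zero, zero_add]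
      match_scalars <;> field_simp <;> ring
    · simp [Units.val_mul, Module.End.mul_apply, ep, eq, h1, h2]
  obtain ⟨ε, hε0, hε⟩ := hτ.exists_skew
  obtain ⟨p₁, hp₁, hp₁ℓ, hp₁π, hp₁f⟩ := weyl ε hε0 hε
  -- elements scaling the second basis vector of the line
  have torus : ∀ r : F, τ r = r → r ≠ 0 → ∃ h ∈ M, (∀ u, (h : Module.End F VV) (inj v u) =
      inj v ((hd τ u e / hd τ e e) • e + (-r * (hd τ u y0 / hd τ y0 y0)) • y0)) ∧
      ∀ T, C T = 0 → C₀ T = 0 → (h : Module.End F VV) T = T := by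
    intro r hr hr0
    obtain ⟨p₂, hp₂, hp₂ℓ, -, hp₂f⟩ := weyl (r * ε) (mul_ne_zero hr0 hε0) (by rw [map_mul, hr, hε, mul_neg])
    refine ⟨p₁ * p₂, mul_mem hp₁ hp₂, fun u => ?_, fun T h1 h2 => by
      rw [Units.val_mul, Module.End.mul_apply, hp₂f T h1 h2, hp₁f T h1 h2]⟩
    have he' : ((p₁ * p₂ : (Module.End F VV)ˣ) : Module.End F VV) (inj v e) = inj v e := by
      rw [Units.val_mul, Module.End.mul_apply, hp₂f _ hCz (hC0v e), hp₁f _ hCz (hC0v e)]
    have hℓ' : ((p₁ * p₂ : (Module.End F VV)ˣ) : Module.End F VV) ℓ = (-r) • ℓ := by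
      rw [Units.val_mul, Module.End.mul_apply, hp₂ℓ, map_smul, hp₁π, smul_smul]
      congr 1
      field_simp
    conv_lhs => rw [hydec u, map_add, map_smul, map_smul, map_add, map_smul, map_smul, he', ← hℓ, hℓ']
    rw [map_add, map_smul, map_smul, ← hℓ, smul_smul, mul_comm]
  by_cases hsq : ∃ r : F, τ r = r ∧ r ≠ 0 ∧ r * r ≠ 1
  · obtain ⟨r, hr, hr0, hr1⟩ := hsq
    obtain ⟨h, hh, hhD, -⟩ := torus r hr hr0
    set D : Matrix α α F := (hd τ e e)⁻¹ • Matrix.vecMulVec e (⇑τ ∘ e) +
      (-r / hd τ y0 y0) • Matrix.vecMulVec y0 (⇑τ ∘ y0) with hD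
    have hDv : ∀ u, D *ᵥ u = (hd τ u e / hd τ e e) • e + (-r * (hd τ u y0 / hd τ y0 y0)) • y0 := fun u => by
      rw [hD, Matrix.add_mulVec, Matrix.smul_mulVec, Matrix.smul_mulVec, Matrix.vecMulVec_mulVec,
        Matrix.vecMulVec_mulVec, op_smul_eq_smul, op_smul_eq_smul, smul_smul, smul_smul]
      simp only [dotProduct_comm (⇑τ ∘ e), dotProduct_comm (⇑τ ∘ y0)]
      congr 2
      · rw [div_eq_inv_mul]; rfl
      · rw [div_mul_eq_mul_div, mul_div_assoc]; rfl
    obtain ⟨c, hc⟩ := (hM.similitude_of_stab hβ hh hv0 hv D fun u => by rw [hhD, hDv]).resolve_left hN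
    have hDdet : D.det ≠ 0 := fun h0 => by
      obtain ⟨u, hu, hu'⟩ := Matrix.exists_mulVec_eq_zero_iff.2 h0
      rw [hDv] at hu'
      refine hu ((hydec u).trans ?_)
      have h1 := congrArg (fun z => hd τ z e) hu'
      have h2 := congrArg (fun z => hd τ z y0) hu'
      simp only [hd_add_left, hd_smul_left, hye, hτ.hd_symm_zero hye, mul_zero, add_zero, zero_add, hd_zero_left,
        mul_eq_zero, hee, hη, or_false, neg_eq_zero, hr0, false_or] at h1 h2
      rw [h1, h2, zero_smul, zero_smul, add_zero]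
    have hsim := similitude_norm hτ hc hDdet
    have h1 := hsim e e
    have h2 := hsim y0 y0
    simp only [hDv, hye, hτ.hd_symm_zero hye, zero_div, mul_zero, zero_smul, add_zero, zero_add, div_self hee,
      div_self hη, one_smul, mul_one, hd_smul_left, hd_smul_right, map_neg, hr] at h1 h2
    have hc1 : c = 1 := mul_right_cancel₀ hee (by rw [← h1, one_mul])
    refine hr1 (mul_right_cancel₀ hη ?_)
    rw [hc1] at h2
    linear_combination h2
  push Not at hsq
  -- the field with nine elements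
  have hss : s * s = 1 := hsq s hs hs0
  have hs' : s = -1 := (mul_self_eq_one_iff.1 hss).resolve_left hs1
  have hne1 : (-1 : F) ≠ 1 := hs' ▸ hs1
  have hεε : ε * ε = -1 := by
    rcases mul_self_eq_one_iff.1 (hsq (ε * ε) (by rw [map_mul, hε, neg_mul_neg]) (mul_ne_zero hε0 hε0)) with h | h
    · rcases mul_self_eq_one_iff.1 h with h' | h' <;> rw [h'] at hε <;>
        simp only [map_one, map_neg, neg_neg] at hε <;> exact absurd hε (by first | exact hne1.symm | exact hne1)
    · exact h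
  obtain ⟨h, hh, hhD, hhf⟩ := torus 1 (map_one τ) one_ne_zero
  obtain ⟨v', k, hfr⟩ := hτ.exists_frame hβ hv0 hv
  have hkk := hfr.kk
  set c₁ := (ε - 1) / hd τ e e with hc₁
  set c₂ := (-ε - 1) / hd τ y0 y0 with hc₂
  set A : Matrix α α F := qr τ e c₁ * qr τ y0 c₂ with hA
  have hAe : A *ᵥ e = ε • e := by
    rw [hA, ← Matrix.mulVec_mulVec, qr_mulVec y0, hτ.hd_symm_zero hye, mul_zero, zero_smul, add_zero, qr_mulVec,
      hc₁, div_mul_cancel₀ _ hee, sub_smul, one_smul, add_sub_cancel]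
  have hAy : A *ᵥ y0 = (-ε) • y0 := by
    rw [hA, ← Matrix.mulVec_mulVec, qr_mulVec y0, hc₂, div_mul_cancel₀ _ hη, sub_smul, one_smul, add_sub_cancel,
      qr_mulVec, hd_smul_left, hye, mul_zero, mul_zero, zero_smul, add_zero]
  obtain ⟨am, ham, eam⟩ := hM.left A (IsIso.mul (isIso_qr hτ (by
      rw [hc₁, map_div₀, map_sub, map_one, hε, hτ.self_fixed]
      field_simp
      linear_combination -hεε))
    (isIso_qr hτ (by
      rw [hc₂, map_div₀, map_sub, map_neg, map_one, hε, hτ.self_fixed]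
      field_simp
      linear_combination -hεε))) (by
    rw [hA, Matrix.det_mul, det_qr, det_qr, hc₁, hc₂, div_mul_cancel₀ _ hee, div_mul_cancel₀ _ hη, add_sub_cancel,
      add_sub_cancel]
    linear_combination -hεε)
  set B : Matrix β β F := (-ε) • (qr τ k (((1 + ε) / -ε) / hd τ k k))ᵀ with hB
  have hrow : ∀ r : β → F, r ᵥ* B = (-ε) • r + ((1 + ε) / hd τ k k * hd τ r k) • k := fun r => by
    rw [hB, Matrix.vecMul_smul, Matrix.vecMul_transpose, qr_mulVec, smul_add, smul_smul]
    congr 2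
    field_simp
  obtain ⟨bm, hbm, ebm⟩ := hM.right B (fun r r' => by
    simp only [hrow, hd_add_left, hd_add_right, hd_smul_left, hd_smul_right, map_mul, map_div₀, map_add, map_one, hε,
      hτ.self_fixed, hτ.hd_conj, map_neg]
    field_simp
    linear_combination (hd τ r k * hd τ k r' - hd τ r r' * hd τ k k) * hεε) (by
    rw [hα, hB, Matrix.det_smul, Matrix.det_transpose, det_qr, hβ, div_mul_cancel₀ _ hfr.kk]
    field_simp
    linear_combination (ε * ε - 1) * hεε)
  have hBinj : ∀ (r : β → F) u, (bm : Module.End F VV) (inj r u) = inj (r ᵥ* B) u := fun r u => by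
    rw [ebm, mulR_apply, inj_apply, inj_apply, Matrix.vecMulVec_mul]
  have hAinj : ∀ (r : β → F) u, (am : Module.End F VV) (inj r u) = inj r (A *ᵥ u) := fun r u => by
    rw [eam, mulL_apply, inj_apply, inj_apply, Matrix.mul_vecMulVec]
  have hfix : ∀ u, ((bm * am * h : (Module.End F VV)ˣ) : Module.End F VV) (inj v u) = inj v u := fun u => by
    rw [Units.val_mul, Units.val_mul, Module.End.mul_apply, Module.End.mul_apply, hhD, hAinj, hBinj, hrow,
      hfr.wk, mul_zero, zero_smul, add_zero, Matrix.mulVec_add, Matrix.mulVec_smul, Matrix.mulVec_smul, hAe, hAy,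
      inj_smul_left, ← map_smul]
    conv_rhs => rw [hydec u]
    congr 1
    simp only [smul_add, smul_smul]
    congr 2
    · linear_combination -(hd τ u e / hd τ e e) * hεε
    · linear_combination -(hd τ u y0 / hd τ y0 y0) * hεε
  obtain ⟨d, hd'⟩ := (hM.quot_scalar hβ hfr (mul_mem (mul_mem hbm ham) hh) hfix).resolve_left hN
  have hkB : k ᵥ* B = k := by
    rw [hrow, div_mul_cancel₀ _ hfr.kk, ← add_smul, show -ε + (1 + ε) = 1 by ring, one_smul]
  have hq : ∀ u, hd τ k k • (A *ᵥ u) = d • u := fun u => by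
    have hku : th τ (inj k u) (inj v e : VV) = 0 := by
      rw [th_inj_left hτ, ct_inj, hfr.wk, zero_smul, hd_zero_right]
    set σ := hd τ (ct τ w (gi (inj k u))) a' / hd τ a' a' / γ
    have h1 : C (inj k u - σ • ℓ) = 0 := by
      rw [map_sub, map_smul, hperp _ hku, hCℓ, smul_smul, div_mul_cancel₀ _ hγ0, sub_self]
    have h2 : C₀ (inj k u - σ • ℓ) = 0 := by
      rw [map_sub, map_smul, hℓ, hC0v, smul_zero, sub_zero]
      show inj v (ct τ v (inj k u)) = 0
      rw [ct_inj, hfr.kw, zero_smul, map_zero]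
    have h3 : (h : Module.End F VV) (inj k u) = inj k u - σ • ℓ + σ • (h : Module.End F VV) ℓ := by
      conv_lhs => rw [show (inj k u : VV) = inj k u - σ • ℓ + σ • ℓ from (sub_add_cancel _ _).symm, map_add, map_smul,
        hhf _ h1 h2]
    have h4 := hd' u
    simp only [LinearMap.comp_apply, Units.val_mul, Module.End.mul_apply, h3, hℓ, hhD, map_add, map_sub, map_smul,
      hAinj, hBinj, hkB, ct_inj, hrow v, hfr.wk, hd_add_left, hd_smul_left, mul_zero, zero_smul, smul_zero, sub_zero,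
      add_zero] at h4
    exact h4
  have h1 := hq e
  have h2 := hq y0
  rw [hAe, smul_smul] at h1
  rw [hAy, smul_smul] at h2
  have e1 : hd τ k k * ε = d := smul_left_injective F he0 h1
  have e2 : hd τ k k * -ε = d := smul_left_injective F hy0ne h2
  have h5 : hd τ k k * ε * (1 - -1) = 0 := by linear_combination e1 - e2
  exact mul_ne_zero (mul_ne_zero hfr.kk hε0) (sub_ne_zero.2 (Ne.symm hne1)) h5

omit hw0 hne he0 hz in
/-- Two lines meeting in a point. -/
theorem nonRoot_of_meet {s : F} (hs : τ s = s) (hs0 : s ≠ 0) (hs1 : s ≠ 1) (hw0 : w ≠ 0)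
    (hne : (line (α := α) w).map (g : Module.End F VV) ≠ line v) {b d : α → F} (hd0 : d ≠ 0)
    (hz : (g : Module.End F VV) (inj w b) = inj v d) : NonRootU τ M := by
  by_cases hb : hd τ b b = 0
  · exact hM.nonRoot_of_touch_iso hα hβ hg hw0 hw hv0 hv hne hd0 hz hb
  by_cases hd' : hd τ d d = 0
  · refine hM.nonRoot_of_touch_iso hα hβ (inv_mem hg) hv0 hv hw0 hw (fun h => hne ?_) (a := d) (e := b)
      (fun h => hb (by rw [h, hd_zero_left])) (by rw [← hz, inv_apply_apply]) hd'
    rw [← h, ← Submodule.map_comp, ← Module.End.mul_eq_comp, Units.mul_inv, Module.End.one_eq_id, Submodule.map_id]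
  · exact hM.nonRoot_of_touch_aniso hα hβ hg hw0 hw hv0 hv hne hd0 hz hs hs0 hs1 hb hd'

end UBase

end CfsgLib.TensorMax.Unitary
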